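import Mathlib

/-!
# Derangements in transitive groups: counting basics
-/

set_option autoImplicit false
set_option linter.unusedSectionVars false

open scoped Classical
open MulAction

namespace Cfsg.Lib.Derange

variable {G Ω : Type*} [Group G] [Finite G] [MulAction G Ω]

/-- The pointwise stabiliser of a pair of points. -/
def st2 (x y : Ω) : Subgroup G := stabilizer G x ⊓ stabilizer G y

theorem mem_st2 {x y : Ω} {g : G} : g ∈ (st2 x y : Subgroup G) ↔ g • x = x ∧ g • y = y := by
  simp [st2, Subgroup.mem_inf, mem_stabilizer_iff]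

theorem st2_comm (x y : Ω) : (st2 x y : Subgroup G) = st2 y x := inf_comm _ _

theorem card_subgroupOf_inf (K S : Subgroup G) :
    Nat.card (S.subgroupOf K) = Nat.card (K ⊓ S : Subgroup G) := by
  rw [← Subgroup.inf_subgroupOf_left S K]
  exact Nat.card_congr (Subgroup.subgroupOfEquivOfLe inf_le_left).toEquiv

theorem stabilizer_subgroup_eq (K : Subgroup G) (t : Ω) :
    stabilizer K t = (stabilizer G t).subgroupOf K := by
  ext k
  simp [Subgroup.mem_subgroupOf, Subgroup.smul_def]

/-- Orbit-stabiliser inside a subgroup. -/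
theorem orbit_mul_inf (K : Subgroup G) (t : Ω) :
    (orbit K t).ncard * Nat.card (K ⊓ stabilizer G t : Subgroup G) = Nat.card K := by
  rw [← card_subgroupOf_inf, ← stabilizer_subgroup_eq, ← index_stabilizer, mul_comm]
  exact Subgroup.card_mul_index _

theorem card_pos' (K : Subgroup G) : 0 < Nat.card K := Nat.card_pos

theorem mem_orbit_sub {K : Subgroup G} {t u : Ω} :
    u ∈ orbit K t ↔ ∃ g ∈ K, g • t = u := by
  constructor
  · rintro ⟨g, rfl⟩; exact ⟨g, g.2, rfl⟩
  · rintro ⟨g, hg, rfl⟩; exact ⟨⟨g, hg⟩, rfl⟩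

/-- Product formula for two point stabilisers in a subgroup. -/
theorem inf_mul_ge [Finite Ω] (K : Subgroup G) (s t : Ω) :
    Nat.card (K ⊓ stabilizer G s : Subgroup G) * Nat.card (K ⊓ stabilizer G t : Subgroup G) ≤
      Nat.card K * Nat.card (K ⊓ stabilizer G s ⊓ stabilizer G t : Subgroup G) := by
  have h1 := orbit_mul_inf (K ⊓ stabilizer G s) t
  have h2 := orbit_mul_inf K t
  have h3 : (orbit (K ⊓ stabilizer G s : Subgroup G) t).ncard ≤ (orbit K t).ncard := by
    apply Set.ncard_le_ncard ?_ (Set.toFinite _)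
    intro u hu
    rw [mem_orbit_sub] at hu ⊢
    obtain ⟨g, hg, hgu⟩ := hu
    exact ⟨g, hg.1, hgu⟩
  calc Nat.card (K ⊓ stabilizer G s : Subgroup G) * Nat.card (K ⊓ stabilizer G t : Subgroup G)
      = (orbit (K ⊓ stabilizer G s : Subgroup G) t).ncard *
          Nat.card (K ⊓ stabilizer G t : Subgroup G) *
          Nat.card (K ⊓ stabilizer G s ⊓ stabilizer G t : Subgroup G) := by
        rw [← h1]; ring
    _ ≤ (orbit K t).ncard *
          Nat.card (K ⊓ stabilizer G t : Subgroup G) *
          Nat.card (K ⊓ stabilizer G s ⊓ stabilizer G t : Subgroup G) := by gcongr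
    _ = _ := by rw [h2]

section FX

variable [Fintype Ω]

/-- The number of fixed points. -/
noncomputable def fx (g : G) : ℕ := (Finset.univ.filter fun ω : Ω => g • ω = ω).card

theorem card_sub_eq [Fintype G] (K : Subgroup G) :
    Nat.card K = (Finset.univ.filter fun g : G => g ∈ K).card := by
  rw [Nat.card_eq_fintype_card, Fintype.card_subtype]

/-- `∑ fx = ∑ |stabiliser|` over a subgroup. -/
theorem sum_fx [Fintype G] (K : Subgroup G) :
    ∑ g ∈ Finset.univ.filter (fun g : G => g ∈ K), fx (Ω := Ω) g =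
      ∑ t : Ω, Nat.card (K ⊓ stabilizer G t : Subgroup G) := by
  unfold fx
  simp_rw [Finset.card_filter]
  rw [Finset.sum_comm]
  refine Finset.sum_congr rfl fun t _ => ?_
  rw [card_sub_eq, Finset.card_filter, Finset.sum_filter]
  refine Finset.sum_congr rfl fun g _ => ?_
  by_cases hg : g ∈ K <;> simp [Subgroup.mem_inf, mem_stabilizer_iff, hg]

/-- `∑ fx² = ∑ |pair stabiliser|` over a subgroup. -/
theorem sum_fx_sq [Fintype G] (K : Subgroup G) :
    ∑ g ∈ Finset.univ.filter (fun g : G => g ∈ K), fx (Ω := Ω) g ^ 2 =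
      ∑ s : Ω, ∑ t : Ω, Nat.card (K ⊓ stabilizer G s ⊓ stabilizer G t : Subgroup G) := by
  unfold fx
  simp_rw [Finset.card_filter, sq, Finset.sum_mul, Finset.mul_sum]
  rw [Finset.sum_comm]
  refine Finset.sum_congr rfl fun s _ => ?_
  rw [Finset.sum_comm]
  refine Finset.sum_congr rfl fun t _ => ?_
  rw [card_sub_eq, Finset.card_filter, Finset.sum_filter]
  refine Finset.sum_congr rfl fun g _ => ?_
  by_cases hg : g ∈ K <;> by_cases hs : g • s = s <;> by_cases ht : g • t = t <;>
    simp [Subgroup.mem_inf, mem_stabilizer_iff, hg, hs, ht]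

/-- The number of orbits of a subgroup, times its order. -/
theorem exists_orbit_count [Fintype G] (K : Subgroup G) :
    ∃ k : ℕ, ∑ t : Ω, Nat.card (K ⊓ stabilizer G t : Subgroup G) = k * Nat.card K := by
  refine ⟨Fintype.card (Quotient (orbitRel K Ω)), ?_⟩
  rw [← sum_fx, Nat.card_eq_fintype_card (α := K),
    ← MulAction.sum_card_fixedBy_eq_card_orbits_mul_card_group K Ω]
  rw [Finset.sum_subtype (p := fun g : G => g ∈ K) _ (by simp)]
  refine Finset.sum_congr rfl fun g _ => ?_
  rw [fx, ← Fintype.card_coe]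
  refine Fintype.card_congr (Equiv.subtypeEquivRight fun t => ?_)
  simp [MulAction.mem_fixedBy, Subgroup.smul_def]

end FX

/-- An orbit of a subgroup lies among the moved points or is a fixed point. -/
theorem card_fixed_inf_orbit_bound [Fintype Ω] (K : Subgroup G) (t : Ω) :
    (orbit K t).ncard ≤ (Finset.univ.filter fun u : Ω => ¬ K ≤ stabilizer G u).card ∨
      K ≤ stabilizer G t := by
  by_cases h : K ≤ stabilizer G t
  · exact Or.inr h
  · left
    rw [Set.ncard_eq_toFinset_card']
    apply Finset.card_le_card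
    intro u hu
    rw [Set.mem_toFinset] at hu
    simp only [Finset.mem_filter, Finset.mem_univ, true_and]
    intro hle
    apply h
    rw [mem_orbit_sub] at hu
    obtain ⟨g, hg, rfl⟩ := hu
    intro k hk
    have h1 : g⁻¹ • (g • t) = g • t := hle (K.inv_mem hg)
    rw [inv_smul_smul] at h1
    have h2 := hle hk
    rw [mem_stabilizer_iff] at h2 ⊢
    rwa [← h1] at h2

end Cfsg.Lib.Derange
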