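import Cfsg.Agent.Derange.Basic

/-!
# Derangement count as a moment of the fixed point numbers, and two lower bounds
-/

set_option autoImplicit false
set_option linter.unusedSectionVars false

open scoped Classical
open MulAction Finset

namespace Cfsg.Lib.Derange

variable {G Ω : Type*} [Group G] [Fintype G] [MulAction G Ω] [Fintype Ω]

/-- Two-fold transitivity. -/
def Two (G Ω : Type*) [Group G] [MulAction G Ω] : Prop :=
  ∀ x y x' y' : Ω, x ≠ y → x' ≠ y' → ∃ g : G, g • x = x' ∧ g • y = y'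

theorem sum_orbit (K : Subgroup G) (y : Ω) :
    ∑ t ∈ (orbit K y).toFinset, Nat.card (K ⊓ stabilizer G t : Subgroup G) = Nat.card K := by
  have h : ∀ t ∈ (orbit K y).toFinset, Nat.card (K ⊓ stabilizer G t : Subgroup G) =
      Nat.card (K ⊓ stabilizer G y : Subgroup G) := by
    intro t ht
    rw [Set.mem_toFinset] at ht
    have h1 := orbit_mul_inf K t
    rw [orbit_eq_iff.mpr ht] at h1
    have h2 := orbit_mul_inf K y
    rw [← h2] at h1
    have hpos : 0 < (orbit K y).ncard :=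
      (Set.ncard_pos (Set.toFinite _)).mpr ⟨y, mem_orbit_self y⟩
    exact Nat.eq_of_mul_eq_mul_left hpos h1
  rw [Finset.sum_congr rfl h, Finset.sum_const, smul_eq_mul, ← Set.ncard_eq_toFinset_card',
    orbit_mul_inf]

theorem card_G_eq (htr : IsPretransitive G Ω) (x : Ω) :
    Nat.card G = Fintype.card Ω * Nat.card (stabilizer G x) := by
  have h := Subgroup.card_mul_index (stabilizer G x)
  rw [@index_stabilizer_of_transitive G Ω _ _ x htr, Nat.card_eq_fintype_card (α := Ω)] at h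
  rw [← h, mul_comm]

theorem sum_fx_univ (htr : IsPretransitive G Ω) [Nonempty Ω] :
    ∑ g : G, fx (Ω := Ω) g = Nat.card G := by
  obtain ⟨x⟩ := ‹Nonempty Ω›
  have h := sum_fx (G := G) (Ω := Ω) ⊤
  simp only [Subgroup.mem_top, Finset.filter_true, top_inf_eq] at h
  rw [h]
  have hc : ∀ t : Ω, Nat.card (stabilizer G t) = Nat.card (stabilizer G x) := by
    intro t
    have h1 := card_G_eq htr x
    rw [card_G_eq htr t] at h1
    exact Nat.eq_of_mul_eq_mul_left (Fintype.card_pos_iff.mpr ⟨x⟩) h1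
  rw [Finset.sum_congr rfl (fun t _ => hc t), Finset.sum_const, smul_eq_mul, Finset.card_univ,
    card_G_eq htr x]

/-- The number of derangements. -/
noncomputable def dn (G Ω : Type*) [Group G] [MulAction G Ω] : ℕ :=
  Nat.card {g : G // ∀ ω : Ω, g • ω ≠ ω}

theorem fx_eq_zero_iff (g : G) : fx (Ω := Ω) g = 0 ↔ ∀ ω : Ω, g • ω ≠ ω := by
  simp [fx, Finset.filter_eq_empty_iff]

theorem dn_eq_filter : dn G Ω = (univ.filter fun g : G => fx (Ω := Ω) g = 0).card := by
  rw [dn, Nat.card_eq_fintype_card, Fintype.card_subtype]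
  congr 1
  ext g
  simp [fx_eq_zero_iff]

/-- `D = ∑ fx(fx-1)/fx`. -/
theorem dn_eq_moment (htr : IsPretransitive G Ω) [Nonempty Ω] :
    (dn G Ω : ℚ) = ∑ g : G, ((fx (Ω := Ω) g : ℚ) * ((fx (Ω := Ω) g : ℚ) - 1)) / fx (Ω := Ω) g := by
  have hterm : ∀ g : G, ((fx (Ω := Ω) g : ℚ) * ((fx (Ω := Ω) g : ℚ) - 1)) / fx (Ω := Ω) g =
      ((fx (Ω := Ω) g : ℚ) - 1) + (if fx (Ω := Ω) g = 0 then 1 else 0) := by
    intro g
    rcases eq_or_ne (fx (Ω := Ω) g) 0 with h | h
    · simp [h]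
    · rw [if_neg h, add_zero, mul_div_assoc, mul_div_cancel₀]
      exact Nat.cast_ne_zero.mpr h
  rw [Finset.sum_congr rfl (fun g _ => hterm g), Finset.sum_add_distrib, Finset.sum_sub_distrib,
    Finset.sum_boole, ← Nat.cast_sum, sum_fx_univ htr, dn_eq_filter]
  simp [Nat.card_eq_fintype_card]

/-- The intransitive-on-pairs case. -/
theorem two_mul_le_of_not_two (htr : IsPretransitive G Ω) [Nonempty Ω] (h2 : ¬ Two G Ω) :
    2 * Nat.card G ≤ Fintype.card Ω * dn G Ω := by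
  have hs : ∃ s y z : Ω, y ≠ s ∧ z ≠ s ∧ z ∉ orbit (stabilizer G s) y := by
    by_contra hcon
    push Not at hcon
    apply h2
    intro x y x' y' hxy hxy'
    obtain ⟨g, hg⟩ := @exists_smul_eq G Ω _ htr x x'
    have hne : g • y ≠ x' := by
      rw [← hg]; exact fun he => hxy ((smul_left_cancel g he).symm)
    obtain ⟨k, hk, hky⟩ := mem_orbit_sub.mp (hcon x' (g • y) y' hne hxy'.symm)
    refine ⟨k * g, ?_, ?_⟩
    · rw [mul_smul, hg]; exact hk
    · rw [mul_smul, hky]
  obtain ⟨s, y, z, hy, hz, hzy⟩ := hs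
  have hrow : ∀ x : Ω, 3 * Nat.card (stabilizer G x) ≤
      ∑ t : Ω, Nat.card (stabilizer G x ⊓ stabilizer G t : Subgroup G) := by
    intro x
    obtain ⟨g, hg⟩ := @exists_smul_eq G Ω _ htr s x
    have hy' : g • y ≠ x := by rw [← hg]; exact fun he => hy (smul_left_cancel g he)
    have hz' : g • z ≠ x := by rw [← hg]; exact fun he => hz (smul_left_cancel g he)
    have hzy' : g • z ∉ orbit (stabilizer G x) (g • y) := by
      intro hmem
      obtain ⟨k, hk, hky⟩ := mem_orbit_sub.mp hmem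
      apply hzy
      refine mem_orbit_sub.mpr ⟨g⁻¹ * k * g, ?_, ?_⟩
      · rw [mem_stabilizer_iff] at hk ⊢
        rw [mul_smul, mul_smul, hg, hk, ← hg, inv_smul_smul]
      · rw [mul_smul, mul_smul, hky, inv_smul_smul]
    have hself : ∀ u : Ω, u ∈ orbit (stabilizer G x) x → u = x := by
      intro u hu
      obtain ⟨k, hk, rfl⟩ := mem_orbit_sub.mp hu
      exact hk
    let O : Ω → Finset Ω := fun u => (orbit (stabilizer G x) u).toFinset
    have d1 : Disjoint (O x) (O (g • y)) := by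
      simp only [O, Set.disjoint_toFinset, Set.disjoint_left]
      intro u hu hu'
      rw [hself u hu] at hu'
      exact hy' (hself _ (mem_orbit_symm.mp hu'))
    have d2 : Disjoint (O x ∪ O (g • y)) (O (g • z)) := by
      simp only [O, ← Set.toFinset_union, Set.disjoint_toFinset, Set.disjoint_left]
      rintro u (hu | hu) hu'
      · rw [hself u hu] at hu'
        exact hz' (hself _ (mem_orbit_symm.mp hu'))
      · apply hzy'
        rw [← orbit_eq_iff] at hu hu' ⊢
        rw [← hu', hu]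
    calc 3 * Nat.card (stabilizer G x)
        = ∑ t ∈ O x ∪ O (g • y) ∪ O (g • z),
            Nat.card (stabilizer G x ⊓ stabilizer G t : Subgroup G) := by
          rw [Finset.sum_union d2, Finset.sum_union d1, sum_orbit, sum_orbit, sum_orbit]
          ring
      _ ≤ _ := Finset.sum_le_sum_of_subset (Finset.subset_univ _)
  have hsq : 3 * Nat.card G ≤ ∑ g : G, fx (Ω := Ω) g ^ 2 := by
    have h := sum_fx_sq (G := G) (Ω := Ω) ⊤
    simp only [Subgroup.mem_top, Finset.filter_true, top_inf_eq] at h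
    rw [h]
    have h1 := sum_fx (G := G) (Ω := Ω) ⊤
    simp only [Subgroup.mem_top, Finset.filter_true, top_inf_eq, sum_fx_univ htr] at h1
    rw [h1, Finset.mul_sum]
    exact Finset.sum_le_sum fun x _ => hrow x
  have hb : ∀ g : G, (fx (Ω := Ω) g : ℚ) * ((fx (Ω := Ω) g : ℚ) - 1) ≤
      (Fintype.card Ω : ℚ) *
        (((fx (Ω := Ω) g : ℚ) * ((fx (Ω := Ω) g : ℚ) - 1)) / fx (Ω := Ω) g) := by
    intro g
    rcases eq_or_ne (fx (Ω := Ω) g) 0 with h | h
    · simp [h]
    · have hle : (fx (Ω := Ω) g : ℚ) ≤ Fintype.card Ω := by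
        exact_mod_cast Finset.card_le_univ _
      have hpos : (1 : ℚ) ≤ fx (Ω := Ω) g := by exact_mod_cast Nat.one_le_iff_ne_zero.mpr h
      rw [mul_div_assoc, mul_div_cancel₀ _ (by positivity)]
      nlinarith
  have : (2 * Nat.card G : ℚ) ≤ (Fintype.card Ω : ℚ) * dn G Ω := by
    rw [dn_eq_moment htr, Finset.mul_sum]
    refine le_trans ?_ (Finset.sum_le_sum fun g _ => hb g)
    have h3 : (3 * Nat.card G : ℚ) ≤ ∑ g : G, (fx (Ω := Ω) g : ℚ) ^ 2 := by exact_mod_cast hsq
    have h4 : (∑ g : G, (fx (Ω := Ω) g : ℚ)) = Nat.card G := by exact_mod_cast sum_fx_univ htr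
    simp only [mul_sub, mul_one, ← sq, Finset.sum_sub_distrib]
    linarith
  exact_mod_cast this

/-- The sum of reciprocals of fixed point numbers over a subgroup. -/
noncomputable def recip (Ω : Type*) [MulAction G Ω] [Fintype Ω] (K : Subgroup G) : ℚ :=
  ∑ g ∈ univ.filter (fun g : G => g ∈ K), 1 / (fx (Ω := Ω) g : ℚ)

theorem fx_conj (c g : G) : fx (Ω := Ω) (c * g * c⁻¹) = fx (Ω := Ω) g := by
  unfold fx
  refine (Finset.card_bij (fun u _ => c • u) ?_ ?_ ?_).symm
  · intro u hu; simp_all [mul_smul]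
  · intro u _ v _ h; exact smul_left_cancel c h
  · intro v hv
    refine ⟨c⁻¹ • v, ?_, by simp⟩
    simp only [Finset.mem_filter, Finset.mem_univ, true_and] at hv ⊢
    rw [mul_smul, mul_smul] at hv
    conv_rhs => rw [← hv, inv_smul_smul]

theorem st2_smul_iff (c g : G) (x y : Ω) :
    c * g * c⁻¹ ∈ (st2 (c • x) (c • y) : Subgroup G) ↔ g ∈ (st2 x y : Subgroup G) := by
  simp [mem_st2, mul_smul]

theorem recip_st2 (h2 : Two G Ω) {a b x y : Ω} (hab : a ≠ b) (hxy : x ≠ y) :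
    recip Ω (st2 x y : Subgroup G) = recip Ω (st2 a b : Subgroup G) := by
  obtain ⟨c, rfl, rfl⟩ := h2 a b x y hab hxy
  unfold recip
  refine (Finset.sum_equiv (MulAut.conj c).toEquiv ?_ ?_).symm
  · intro g
    simp [st2_smul_iff]
  · intro g _
    simp [fx_conj]

theorem two_isPretransitive [Nontrivial Ω] (h2 : Two G Ω) : IsPretransitive G Ω := by
  refine ⟨fun x x' => ?_⟩
  obtain ⟨y, hy⟩ := exists_ne x
  obtain ⟨y', hy'⟩ := exists_ne x'
  obtain ⟨g, hg, -⟩ := h2 x y x' y' hy.symm hy'.symm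
  exact ⟨g, hg⟩

theorem card_G_two [Nontrivial Ω] (h2 : Two G Ω) {a b : Ω} (hab : a ≠ b) :
    Nat.card G = Fintype.card Ω * ((Fintype.card Ω - 1) * Nat.card (st2 a b : Subgroup G)) := by
  rw [card_G_eq (two_isPretransitive h2) a]
  congr 1
  have h := orbit_mul_inf (stabilizer G a) b
  have hO : orbit (stabilizer G a) b = ({a}ᶜ : Set Ω) := by
    ext u
    rw [mem_orbit_sub, Set.mem_compl_singleton_iff]
    constructor
    · rintro ⟨g, hg, rfl⟩ he
      rw [mem_stabilizer_iff] at hg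
      exact hab (smul_left_cancel g (he.trans hg.symm)).symm
    · intro hu
      obtain ⟨g, hga, hgb⟩ := h2 a b a u hab (Ne.symm hu)
      exact ⟨g, hga, hgb⟩
  rw [hO, Set.ncard_compl, Set.ncard_singleton, Nat.card_eq_fintype_card (α := Ω)] at h
  exact h.symm

theorem sum_pairs_eq (g : G) :
    ((univ : Finset Ω).offDiag.filter fun q => g • q.1 = q.1 ∧ g • q.2 = q.2).card =
      fx (Ω := Ω) g * fx (Ω := Ω) g - fx (Ω := Ω) g := by
  rw [fx, ← Finset.offDiag_card]
  congr 1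
  ext ⟨u, v⟩
  simp [Finset.mem_offDiag]
  tauto

/-- The derangement number of a doubly transitive group. -/
theorem dn_two [Nontrivial Ω] (h2 : Two G Ω) {a b : Ω} (hab : a ≠ b) :
    (dn G Ω : ℚ) = (Fintype.card Ω : ℚ) * ((Fintype.card Ω : ℚ) - 1) *
      recip Ω (st2 a b : Subgroup G) := by
  have key : ∑ q ∈ (univ : Finset Ω).offDiag, recip Ω (st2 q.1 q.2 : Subgroup G) =
      ∑ g : G, ((fx (Ω := Ω) g : ℚ) * ((fx (Ω := Ω) g : ℚ) - 1)) / fx (Ω := Ω) g := by
    unfold recip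
    simp_rw [Finset.sum_filter]
    rw [Finset.sum_comm]
    refine Finset.sum_congr rfl fun g _ => ?_
    simp_rw [mem_st2]
    rw [← Finset.sum_filter, Finset.sum_const, sum_pairs_eq, nsmul_eq_mul]
    have hle : fx (Ω := Ω) g ≤ fx (Ω := Ω) g * fx (Ω := Ω) g := Nat.le_mul_self _
    push_cast [hle]
    ring
  rw [dn_eq_moment (two_isPretransitive h2), ← key,
    Finset.sum_congr rfl (fun q hq => recip_st2 h2 hab ((Finset.mem_offDiag.mp hq).2.2)),
    Finset.sum_const, Finset.offDiag_card, Finset.card_univ, nsmul_eq_mul]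
  have hle : Fintype.card Ω ≤ Fintype.card Ω * Fintype.card Ω := Nat.le_mul_self _
  push_cast [hle]
  ring

/-- Reduction to the reciprocal sum. -/
theorem two_mul_le_of_recip [Nontrivial Ω] (h2 : Two G Ω) {a b : Ω} (hab : a ≠ b)
    (h : (2 * Nat.card (st2 a b : Subgroup G) : ℚ) ≤
      (Fintype.card Ω : ℚ) * recip Ω (st2 a b : Subgroup G)) :
    2 * Nat.card G ≤ Fintype.card Ω * dn G Ω := by
  have hn : 1 ≤ Fintype.card Ω := Fintype.card_pos
  have : (2 * Nat.card G : ℚ) ≤ (Fintype.card Ω : ℚ) * dn G Ω := by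
    rw [dn_two h2 hab, card_G_two h2 hab]
    push_cast [hn]
    have hn' : (1 : ℚ) ≤ Fintype.card Ω := by exact_mod_cast hn
    have := mul_le_mul_of_nonneg_left h
      (show (0 : ℚ) ≤ (Fintype.card Ω : ℚ) * ((Fintype.card Ω : ℚ) - 1) by
        exact mul_nonneg (by positivity) (by linarith))
    linarith
  exact_mod_cast this

theorem fx_one : fx (Ω := Ω) (1 : G) = Fintype.card Ω := by
  simp [fx]

theorem two_le_fx_of_mem {a b : Ω} (hab : a ≠ b) {g : G} (hg : g ∈ (st2 a b : Subgroup G)) :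
    2 ≤ fx (Ω := Ω) g := by
  rw [mem_st2] at hg
  rw [fx]
  refine le_trans ?_ (Finset.card_le_card (s := {a, b}) ?_)
  · rw [Finset.card_pair hab]
  · intro u hu
    simp only [Finset.mem_insert, Finset.mem_singleton] at hu
    rcases hu with rfl | rfl <;> simp [hg.1, hg.2]

/-- Criterion by the number of orbits. -/
theorem crit_A {a b : Ω} (hab : a ≠ b) (k : ℕ)
    (hk : ∑ t : Ω, Nat.card (st2 a b ⊓ stabilizer G t : Subgroup G) =
      k * Nat.card (st2 a b : Subgroup G))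
    (hh : 2 ≤ Nat.card (st2 a b : Subgroup G))
    (hle : (k : ℚ) * (2 * Nat.card (st2 a b : Subgroup G) - 1) ≤
      (Fintype.card Ω : ℚ) * Nat.card (st2 a b : Subgroup G)) :
    (2 * Nat.card (st2 a b : Subgroup G) : ℚ) ≤
      (Fintype.card Ω : ℚ) * recip Ω (st2 a b : Subgroup G) := by
  set H : Subgroup G := st2 a b
  set h : ℕ := Nat.card H with hdef
  set n : ℕ := Fintype.card Ω
  set S := univ.filter fun g : G => g ∈ H with hS
  have h1mem : (1 : G) ∈ S := by simp [hS, H.one_mem]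
  have hcard : (S.card : ℚ) = h := by rw [hdef, card_sub_eq]
  have hsum : ∑ g ∈ S, (fx (Ω := Ω) g : ℚ) = k * h := by
    have := sum_fx (G := G) (Ω := Ω) H
    rw [hk] at this
    exact_mod_cast this
  have hn : (2 : ℚ) ≤ n := by
    have := two_le_fx_of_mem hab H.one_mem
    rw [fx_one] at this
    exact_mod_cast this
  have hh' : (2 : ℚ) ≤ h := by exact_mod_cast hh
  set c : ℚ := (2 * h - 1) / ((h - 1) * n) with hc
  have hterm : ∀ g ∈ S.erase 1, 2 * c - c ^ 2 * fx (Ω := Ω) g ≤ 1 / (fx (Ω := Ω) g : ℚ) := by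
    intro g hg
    have hgH : g ∈ H := by simpa [hS] using (Finset.mem_of_mem_erase hg)
    have hp : (0 : ℚ) < fx (Ω := Ω) g := by
      exact_mod_cast lt_of_lt_of_le two_pos (two_le_fx_of_mem hab hgH)
    rw [le_div_iff₀ hp]
    nlinarith [sq_nonneg (1 - c * fx (Ω := Ω) g)]
  have hsplit : recip Ω H = 1 / (n : ℚ) + ∑ g ∈ S.erase 1, 1 / (fx (Ω := Ω) g : ℚ) := by
    rw [recip, ← hS, ← Finset.add_sum_erase S _ h1mem, fx_one]
  have hsum' : ∑ g ∈ S.erase 1, (fx (Ω := Ω) g : ℚ) = k * h - n := by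
    have := Finset.add_sum_erase S (fun g => (fx (Ω := Ω) g : ℚ)) h1mem
    simp only [fx_one] at this
    linarith
  have hlow : (2 * c) * ((h : ℚ) - 1) - c ^ 2 * (k * h - n) ≤
      ∑ g ∈ S.erase 1, 1 / (fx (Ω := Ω) g : ℚ) := by
    refine le_trans (le_of_eq ?_) (Finset.sum_le_sum hterm)
    rw [Finset.sum_sub_distrib, Finset.sum_const, nsmul_eq_mul, ← Finset.mul_sum, hsum',
      Finset.card_erase_of_mem h1mem, Nat.cast_sub (Finset.card_pos.mpr ⟨1, h1mem⟩), hcard,
      Nat.cast_one]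
    ring
  have hkey : (n : ℚ) * ((2 * c) * ((h : ℚ) - 1) - c ^ 2 * (k * h - n)) ≥ 2 * h - 1 := by
    have hne : ((h : ℚ) - 1) ≠ 0 := by linarith
    have e : (n : ℚ) * ((2 * c) * ((h : ℚ) - 1) - c ^ 2 * (k * h - n)) - (2 * h - 1) =
        (2 * h - 1) * ((n : ℚ) * (h - 1) ^ 2 - (2 * h - 1) * (k * h - n)) /
          ((h - 1) ^ 2 * n) := by
      rw [hc]
      field_simp
      ring
    have hnn : (0 : ℚ) ≤ (2 * h - 1) * ((n : ℚ) * (h - 1) ^ 2 - (2 * h - 1) * (k * h - n)) /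
          ((h - 1) ^ 2 * n) := by
      apply div_nonneg
      · apply mul_nonneg (by linarith)
        nlinarith [hle, hh']
      · positivity
    linarith
  rw [hsplit, mul_add, mul_one_div, div_self (by linarith : (n : ℚ) ≠ 0)]
  nlinarith [mul_le_mul_of_nonneg_left hlow (by linarith : (0 : ℚ) ≤ n)]

/-- Criterion by the second moment. -/
theorem crit_B {a b : Ω} (hab : a ≠ b) (k : ℕ)
    (hk : ∑ t : Ω, Nat.card (st2 a b ⊓ stabilizer G t : Subgroup G) =
      k * Nat.card (st2 a b : Subgroup G))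
    (hQ : 8 * (Fintype.card Ω : ℚ) * k * Nat.card (st2 a b : Subgroup G) ≤
      3 * (Fintype.card Ω : ℚ) ^ 2 * Nat.card (st2 a b : Subgroup G) +
        4 * ∑ s : Ω, ∑ t : Ω,
          (Nat.card (st2 a b ⊓ stabilizer G s ⊓ stabilizer G t : Subgroup G) : ℚ)) :
    (2 * Nat.card (st2 a b : Subgroup G) : ℚ) ≤
      (Fintype.card Ω : ℚ) * recip Ω (st2 a b : Subgroup G) := by
  set H : Subgroup G := st2 a b
  set h : ℕ := Nat.card H with hdef
  set n : ℕ := Fintype.card Ω
  set S := univ.filter fun g : G => g ∈ H with hS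
  have hcard : (S.card : ℚ) = h := by rw [hdef, card_sub_eq]
  have hsum : ∑ g ∈ S, (fx (Ω := Ω) g : ℚ) = k * h := by
    have := sum_fx (G := G) (Ω := Ω) H
    rw [hk] at this
    exact_mod_cast this
  have hsum2 : ∑ g ∈ S, (fx (Ω := Ω) g : ℚ) ^ 2 = ∑ s : Ω, ∑ t : Ω,
      (Nat.card (H ⊓ stabilizer G s ⊓ stabilizer G t : Subgroup G) : ℚ) := by
    exact_mod_cast sum_fx_sq (G := G) (Ω := Ω) H
  have hterm : ∀ g ∈ S, ((n : ℚ) ^ 2 + 4 * ((n : ℚ) - fx (Ω := Ω) g) ^ 2) / (n : ℚ) ^ 2 ≤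
      (n : ℚ) * (1 / (fx (Ω := Ω) g : ℚ)) := by
    intro g hg
    have hgH : g ∈ H := by simpa [hS] using hg
    have hp : (0 : ℚ) < fx (Ω := Ω) g := by
      exact_mod_cast lt_of_lt_of_le two_pos (two_le_fx_of_mem hab hgH)
    have hle : (fx (Ω := Ω) g : ℚ) ≤ n := by exact_mod_cast Finset.card_le_univ _
    have hn : (0 : ℚ) < n := by linarith
    rw [mul_one_div, div_le_div_iff₀ (by positivity) hp]
    nlinarith [mul_nonneg (sub_nonneg.mpr hle)
      (sq_nonneg ((n : ℚ) - 2 * fx (Ω := Ω) g))]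
  have hn : (0 : ℚ) < n := by
    have := two_le_fx_of_mem hab H.one_mem
    rw [fx_one] at this
    exact_mod_cast lt_of_lt_of_le two_pos this
  rw [recip, ← hS, Finset.mul_sum]
  refine le_trans ?_ (Finset.sum_le_sum hterm)
  rw [← Finset.sum_div, le_div_iff₀ (by positivity), Finset.sum_add_distrib, Finset.sum_const,
    nsmul_eq_mul, ← Finset.mul_sum, hcard]
  have e : ∑ g ∈ S, ((n : ℚ) - fx (Ω := Ω) g) ^ 2 =
      (h : ℚ) * n ^ 2 - 2 * n * (k * h) + ∑ g ∈ S, (fx (Ω := Ω) g : ℚ) ^ 2 := by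
    simp_rw [sub_sq]
    rw [Finset.sum_add_distrib, Finset.sum_sub_distrib, Finset.sum_const, nsmul_eq_mul, hcard,
      ← Finset.mul_sum, hsum]
  rw [e, hsum2]
  nlinarith

end Cfsg.Lib.Derange
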