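import Cfsg.Agent.Derange.Moments

/-!
# Lines of a doubly transitive group and the index two triangle lemma
-/

set_option autoImplicit false
set_option linter.unusedSectionVars false

open scoped Classical
open MulAction Finset

namespace Cfsg.Lib.Derange

variable {G Ω : Type*} [Group G] [Fintype G] [MulAction G Ω] [Fintype Ω]

/-- The fixed point set of a subgroup. -/
noncomputable def fixSet (Ω : Type*) [MulAction G Ω] [Fintype Ω] (K : Subgroup G) : Finset Ω :=
  univ.filter fun z => K ≤ stabilizer G z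

theorem mem_fixSet {K : Subgroup G} {z : Ω} : z ∈ fixSet Ω K ↔ K ≤ stabilizer G z := by
  simp [fixSet]

/-- The line through two points. -/
noncomputable def line (G : Type*) {Ω : Type*} [Group G] [MulAction G Ω] [Fintype Ω] (x y : Ω) :
    Finset Ω :=
  fixSet Ω (st2 x y : Subgroup G)

theorem left_mem_line (x y : Ω) : x ∈ line G x y := mem_fixSet.mpr inf_le_left

theorem right_mem_line (x y : Ω) : y ∈ line G x y := mem_fixSet.mpr inf_le_right

theorem line_comm (x y : Ω) : line G x y = line G y x := by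
  unfold line; rw [st2_comm]

theorem card_st2_eq [Nontrivial Ω] (h2 : Two G Ω) {a b x y : Ω} (hab : a ≠ b) (hxy : x ≠ y) :
    Nat.card (st2 x y : Subgroup G) = Nat.card (st2 a b : Subgroup G) := by
  have h1 := card_G_two h2 hxy
  rw [card_G_two h2 hab] at h1
  have hn : 1 < Fintype.card Ω := Fintype.one_lt_card
  have h3 := Nat.eq_of_mul_eq_mul_left (by omega) h1
  exact (Nat.eq_of_mul_eq_mul_left (by omega) h3).symm

theorem line_eq [Nontrivial Ω] (h2 : Two G Ω) {x y z w : Ω} (hxy : x ≠ y) (hzw : z ≠ w)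
    (hz : z ∈ line G x y) (hw : w ∈ line G x y) :
    (st2 z w : Subgroup G) = st2 x y ∧ line G z w = line G x y := by
  have hle : (st2 x y : Subgroup G) ≤ st2 z w := le_inf (mem_fixSet.mp hz) (mem_fixSet.mp hw)
  have he := Subgroup.eq_of_le_of_card_ge hle (le_of_eq (card_st2_eq h2 hxy hzw))
  exact ⟨he.symm, by rw [line, line, he]⟩

theorem mem_line_smul (c : G) (x y z : Ω) :
    c • z ∈ line G (c • x) (c • y) ↔ z ∈ line G x y := by
  simp only [line, mem_fixSet]
  constructor
  · intro h g hg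
    have := h ((st2_smul_iff c g x y).mpr hg)
    rw [mem_stabilizer_iff, mul_smul, mul_smul, inv_smul_smul] at this
    exact smul_left_cancel c this
  · intro h g hg
    have hg' : c⁻¹ * g * c ∈ (st2 x y : Subgroup G) := by
      rw [← st2_smul_iff c]
      rwa [show c * (c⁻¹ * g * c) * c⁻¹ = g by group]
    have := h hg'
    rw [mem_stabilizer_iff, mul_smul, mul_smul, inv_smul_eq_iff] at this
    exact this

theorem card_inf_smul (c : G) (x y z : Ω) :
    Nat.card (st2 (c • x) (c • y) ⊓ stabilizer G (c • z) : Subgroup G) =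
      Nat.card (st2 x y ⊓ stabilizer G z : Subgroup G) := by
  rw [card_sub_eq, card_sub_eq]
  refine (Finset.card_equiv (MulAut.conj c).toEquiv ?_).symm
  intro g
  simp only [Finset.mem_filter, Finset.mem_univ, true_and, Subgroup.mem_inf,
    MulEquiv.toEquiv_eq_coe, MulEquiv.coe_toEquiv, MulAut.conj_apply, st2_smul_iff,
    mem_stabilizer_iff]
  rw [mul_smul, mul_smul, inv_smul_smul, smul_left_cancel_iff]

theorem card_line_eq [Nontrivial Ω] (h2 : Two G Ω) {a b x y : Ω} (hab : a ≠ b) (hxy : x ≠ y) :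
    (line G x y).card = (line G a b).card := by
  obtain ⟨c, rfl, rfl⟩ := h2 a b x y hab hxy
  refine (Finset.card_equiv (MulAction.toPerm c) ?_).symm
  intro z
  simp [mem_line_smul]

/-- A closed set contains the line through any two of its points. -/
def Closed (G : Type*) {Ω : Type*} [Group G] [MulAction G Ω] [Fintype Ω] (Φ : Finset Ω) : Prop :=
  ∀ z ∈ Φ, ∀ w ∈ Φ, z ≠ w → line G z w ⊆ Φ

theorem closed_fixSet (K : Subgroup G) : Closed G (fixSet Ω K) := by
  intro z hz w hw _ u hu
  exact mem_fixSet.mpr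
    (le_trans (le_inf (mem_fixSet.mp hz) (mem_fixSet.mp hw)) (mem_fixSet.mp hu))

theorem closed_univ : Closed G (univ : Finset Ω) := fun _ _ _ _ _ => Finset.subset_univ _

/-- A proper closed subset is small. -/
theorem closed_count [Nontrivial Ω] (h2 : Two G Ω) {a b : Ω} (hab : a ≠ b) {Φ Ψ : Finset Ω}
    (hΦ : Closed G Φ) (hΨ : Closed G Ψ) (hsub : Φ ⊆ Ψ) {o : Ω} (ho : o ∈ Ψ) (ho' : o ∉ Φ) :
    Φ.card * ((line G a b).card - 1) + 1 ≤ Ψ.card := by
  have hne : ∀ z ∈ Φ, o ≠ z := fun z hz he => ho' (he ▸ hz)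
  have hcard : ∀ z ∈ Φ, ((line G o z).erase o).card = (line G a b).card - 1 := by
    intro z hz
    rw [Finset.card_erase_of_mem (left_mem_line o z), card_line_eq h2 hab (hne z hz)]
  have hdisj : ∀ z ∈ Φ, ∀ z' ∈ Φ, z ≠ z' →
      Disjoint ((line G o z).erase o) ((line G o z').erase o) := by
    intro z hz z' hz' hzz'
    rw [Finset.disjoint_left]
    intro u hu hu'
    rw [Finset.mem_erase] at hu hu'
    have e1 := (line_eq h2 (hne z hz) hu.1.symm (left_mem_line o z) hu.2).2
    have e2 := (line_eq h2 (hne z' hz') hu.1.symm (left_mem_line o z') hu'.2).2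
    have hz'mem : z' ∈ line G o z := by rw [← e1, e2]; exact right_mem_line o z'
    have e3 := (line_eq h2 (hne z hz) hzz' (right_mem_line o z) hz'mem).2
    exact ho' (hΦ z hz z' hz' hzz' (e3 ▸ left_mem_line o z))
  have hsubΨ : Φ.biUnion (fun z => (line G o z).erase o) ⊆ Ψ.erase o := by
    intro u hu
    simp only [Finset.mem_biUnion, Finset.mem_erase] at hu
    obtain ⟨z, hz, huo, hu⟩ := hu
    exact Finset.mem_erase.mpr ⟨huo, hΨ o ho z (hsub hz) (hne z hz) hu⟩
  have h := Finset.card_le_card hsubΨ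
  rw [Finset.card_biUnion hdisj, Finset.sum_congr rfl hcard, Finset.sum_const, smul_eq_mul,
    Finset.card_erase_of_mem ho] at h
  have : 1 ≤ Ψ.card := Finset.card_pos.mpr ⟨o, ho⟩
  omega

/-- The lines through a point partition the other points. -/
theorem line_dvd [Nontrivial Ω] (h2 : Two G Ω) {a b : Ω} (hab : a ≠ b) :
    (line G a b).card - 1 ∣ Fintype.card Ω - 1 := by
  set S := (univ : Finset Ω).erase a
  have hfib : ∀ L ∈ S.image (fun z => line G a z),
      (S.filter fun z => line G a z = L).card = (line G a b).card - 1 := by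
    intro L hL
    obtain ⟨z, hz, rfl⟩ := Finset.mem_image.mp hL
    have hza : a ≠ z := ((Finset.mem_erase.mp hz).1).symm
    rw [← card_line_eq h2 hab hza, ← Finset.card_erase_of_mem (left_mem_line (G := G) a z)]
    congr 1
    ext u
    simp only [S, Finset.mem_filter, Finset.mem_erase, Finset.mem_univ, and_true]
    constructor
    · rintro ⟨hu, he⟩
      exact ⟨hu, he ▸ right_mem_line a u⟩
    · rintro ⟨hu, he⟩
      exact ⟨hu, (line_eq h2 hza hu.symm (left_mem_line a z) he).2⟩
  have h := Finset.card_eq_sum_card_image (fun z => line G a z) S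
  rw [Finset.sum_congr rfl hfib, Finset.sum_const, smul_eq_mul,
    Finset.card_erase_of_mem (Finset.mem_univ a), Finset.card_univ] at h
  exact Dvd.intro_left _ h.symm

theorem eq_bot_of_fixSet_univ [FaithfulSMul G Ω] {K : Subgroup G}
    (h : fixSet Ω K = (univ : Finset Ω)) : K = ⊥ := by
  rw [eq_bot_iff]
  intro g hg
  rw [Subgroup.mem_bot]
  apply FaithfulSMul.eq_of_smul_eq_smul (α := Ω)
  intro z
  have hz : z ∈ fixSet Ω K := h ▸ Finset.mem_univ z
  rw [one_smul]
  exact mem_fixSet.mp hz hg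

/-- Subgroups of index two are normalised. -/
theorem le_normalizer_of_half {A B : Subgroup G} (hle : A ≤ B)
    (hc : 2 * Nat.card A = Nat.card B) : B ≤ Subgroup.normalizer (A : Set G) := by
  have hidx : (A.subgroupOf B).index = 2 := by
    have h := Subgroup.card_mul_index (A.subgroupOf B)
    rw [Nat.card_congr (Subgroup.subgroupOfEquivOfLe hle).toEquiv, ← hc, mul_comm 2] at h
    exact Nat.eq_of_mul_eq_mul_left Nat.card_pos h
  exact (Subgroup.normal_subgroupOf_iff_le_normalizer hle).mp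
    (Subgroup.normal_of_index_eq_two hidx)

/-- An index two subgroup and a subgroup not in it generate. -/
theorem sup_eq_of_half {A B H : Subgroup G} (hA : A ≤ H) (hB : B ≤ H)
    (hc : 2 * Nat.card A = Nat.card H) (hne : ¬ B ≤ A) : A ⊔ B = H := by
  apply Subgroup.eq_of_le_of_card_ge (sup_le hA hB)
  have d1 : Nat.card A ∣ Nat.card (A ⊔ B : Subgroup G) := Subgroup.card_dvd_of_le le_sup_left
  have d2 : Nat.card (A ⊔ B : Subgroup G) ∣ Nat.card H := Subgroup.card_dvd_of_le (sup_le hA hB)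
  have hlt : Nat.card A < Nat.card (A ⊔ B : Subgroup G) := by
    refine lt_of_le_of_ne (Nat.le_of_dvd Nat.card_pos d1) fun he => hne ?_
    have := Subgroup.eq_of_le_of_card_ge (le_sup_left : A ≤ A ⊔ B) he.ge
    rw [this]; exact le_sup_right
  obtain ⟨j, hj⟩ := d1
  have hApos : 0 < Nat.card A := Nat.card_pos
  have h1j : 1 < j := by
    rw [hj] at hlt
    by_contra hcon
    interval_cases j <;> simp_all
  calc Nat.card H = Nat.card A * 2 := by rw [← hc, mul_comm]
    _ ≤ Nat.card A * j := Nat.mul_le_mul_left _ h1j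
    _ = _ := hj.symm

/-- Three subgroups of the same order meeting pairwise in index two. -/
theorem triangle {H₁ H₂ H₃ : Subgroup G} {h : ℕ} (c1 : Nat.card H₁ = h) (c2 : Nat.card H₂ = h)
    (c3 : Nat.card H₃ = h) (h12 : 2 * Nat.card (H₁ ⊓ H₂ : Subgroup G) = h)
    (h13 : 2 * Nat.card (H₁ ⊓ H₃ : Subgroup G) = h)
    (h23 : 2 * Nat.card (H₂ ⊓ H₃ : Subgroup G) = h) (hne : ¬ H₁ ⊓ H₂ ≤ H₃) :
    H₁ ≤ Subgroup.normalizer (H₂ : Set G) := by
  have hBA : ¬ H₁ ⊓ H₃ ≤ H₁ ⊓ H₂ := by
    intro hle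
    apply hne
    rw [← Subgroup.eq_of_le_of_card_ge hle (by omega)]
    exact inf_le_right
  have hCA : ¬ H₂ ⊓ H₃ ≤ H₁ ⊓ H₂ := by
    intro hle
    apply hne
    rw [← Subgroup.eq_of_le_of_card_ge hle (by omega)]
    exact inf_le_right
  have e1 : (H₁ ⊓ H₂) ⊔ (H₁ ⊓ H₃) = H₁ :=
    sup_eq_of_half inf_le_left inf_le_left (by omega) hBA
  have e2 : (H₁ ⊓ H₂) ⊔ (H₂ ⊓ H₃) = H₂ :=
    sup_eq_of_half inf_le_right inf_le_left (by omega) hCA
  have nA : H₁ ≤ Subgroup.normalizer ((H₁ ⊓ H₂ : Subgroup G) : Set G) :=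
    le_normalizer_of_half inf_le_left (by omega)
  have nC2 : H₂ ≤ Subgroup.normalizer ((H₂ ⊓ H₃ : Subgroup G) : Set G) :=
    le_normalizer_of_half inf_le_left (by omega)
  have nC3 : H₃ ≤ Subgroup.normalizer ((H₂ ⊓ H₃ : Subgroup G) : Set G) :=
    le_normalizer_of_half inf_le_right (by omega)
  have nC : H₁ ≤ Subgroup.normalizer ((H₂ ⊓ H₃ : Subgroup G) : Set G) := by
    conv_lhs => rw [← e1]
    exact sup_le (le_trans inf_le_right nC2) (le_trans inf_le_right nC3)
  have := le_trans (le_inf nA nC)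
    (Subgroup.normalizer_inf_normalizer_le_normalizer_sup (H₁ ⊓ H₂) (H₂ ⊓ H₃))
  rwa [e2] at this

/-- A point in the two relevant half orbits is fixed by the half stabiliser. -/
theorem fix_of_adjacent [Nontrivial Ω] (h2 : Two G Ω) {a b γ δ : Ω} (hab : a ≠ b) (haγ : a ≠ γ)
    (hγ : 2 * Nat.card (st2 a b ⊓ stabilizer G γ : Subgroup G) =
      Nat.card (st2 a b : Subgroup G))
    (hcross : ∃ g ∈ (st2 a b : Subgroup G), g • γ ∉ line G a γ)
    (hδ : 2 * Nat.card (st2 a b ⊓ stabilizer G δ : Subgroup G) =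
        Nat.card (st2 a b : Subgroup G) ∨ δ ∈ line G a b)
    (hδ' : 2 * Nat.card (st2 a γ ⊓ stabilizer G δ : Subgroup G) =
        Nat.card (st2 a γ : Subgroup G) ∨ δ ∈ line G a γ) :
    δ ∈ fixSet Ω (st2 a b ⊓ stabilizer G γ : Subgroup G) := by
  rw [mem_fixSet]
  rcases hδ with hδ | hδ
  swap
  · exact le_trans inf_le_left (mem_fixSet.mp hδ)
  rcases hδ' with hδ' | hδ'
  swap
  · exact le_trans (le_inf (inf_le_left.trans inf_le_left) inf_le_right) (mem_fixSet.mp hδ')
  by_contra hcon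
  have haδ : a ≠ δ := by
    intro he
    subst he
    exact hcon (inf_le_left.trans inf_le_left)
  have e12 : (st2 a b ⊓ st2 a γ : Subgroup G) = st2 a b ⊓ stabilizer G γ := by
    unfold st2; rw [← inf_assoc, inf_right_comm (stabilizer G a) (stabilizer G b), inf_idem,
      inf_assoc]
  have e13 : (st2 a b ⊓ st2 a δ : Subgroup G) = st2 a b ⊓ stabilizer G δ := by
    unfold st2; rw [← inf_assoc, inf_right_comm (stabilizer G a) (stabilizer G b), inf_idem,
      inf_assoc]
  have e23 : (st2 a γ ⊓ st2 a δ : Subgroup G) = st2 a γ ⊓ stabilizer G δ := by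
    unfold st2; rw [← inf_assoc, inf_right_comm (stabilizer G a) (stabilizer G γ), inf_idem,
      inf_assoc]
  have c2 := card_st2_eq h2 hab haγ
  have c3 := card_st2_eq h2 hab haδ
  have hn := triangle (H₁ := st2 a b) (H₂ := st2 a γ) (H₃ := st2 a δ) rfl c2 c3
    (by rw [e12]; exact hγ) (by rw [e13]; exact hδ) (by rw [e23, hδ', c2])
    (by
      rw [e12]
      intro hle
      exact hcon (le_trans hle inf_le_right))
  obtain ⟨g, hg, hgγ⟩ := hcross
  apply hgγ
  rw [line, mem_fixSet]
  intro k hk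
  have := (Subgroup.mem_normalizer_iff.mp (hn ((st2 a b).inv_mem hg)) k).mp hk
  rw [inv_inv] at this
  have h' := (mem_st2.mp this).2
  rw [mem_stabilizer_iff]
  rwa [mul_smul, mul_smul, inv_smul_eq_iff] at h'

/-- Of the two ways of reading a pair, at least one is crossing. -/
theorem exists_cross [Nontrivial Ω] (h2 : Two G Ω) {a b γ : Ω} (hab : a ≠ b)
    (hγ : γ ∉ line G a b) :
    (∃ g ∈ (st2 a b : Subgroup G), g • γ ∉ line G a γ) ∨
      ∃ g ∈ (st2 a b : Subgroup G), g • γ ∉ line G b γ := by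
  have haγ : a ≠ γ := fun he => hγ (he ▸ left_mem_line a b)
  have hbγ : b ≠ γ := fun he => hγ (he ▸ right_mem_line a b)
  obtain ⟨g, hg, hgγ⟩ : ∃ g ∈ (st2 a b : Subgroup G), g • γ ≠ γ := by
    by_contra hcon
    push Not at hcon
    exact hγ (mem_fixSet.mpr fun k hk => hcon k hk)
  by_contra hcon
  push Not at hcon
  have e1 := (line_eq h2 haγ (Ne.symm hgγ) (right_mem_line a γ) (hcon.1 g hg)).2
  have e2 := (line_eq h2 hbγ (Ne.symm hgγ) (right_mem_line b γ) (hcon.2 g hg)).2
  have hb : b ∈ line G a γ := by rw [← e1, e2]; exact left_mem_line b γ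
  exact hγ ((line_eq h2 haγ hab (left_mem_line a γ) hb).2 ▸ right_mem_line a γ)

end Cfsg.Lib.Derange
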