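import Cfsg.Agent.Derange.Pairs

/-!
# Degree seven
-/

set_option autoImplicit false
set_option linter.unusedSectionVars false

open scoped Classical
open MulAction Finset

namespace Cfsg.Lib.Derange

variable {G Ω : Type*} [Group G] [Fintype G] [MulAction G Ω] [Fintype Ω]

theorem fx_of_order_seven [FaithfulSMul G Ω] (h7 : Fintype.card Ω = 7) {g : G}
    (hg : orderOf g = 7) : fx (Ω := Ω) g = 0 := by
  have : Fact (Nat.Prime 7) := ⟨by norm_num⟩
  have hP : IsPGroup 7 (Subgroup.zpowers g) := by
    apply IsPGroup.of_card (n := 1)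
    rw [Nat.card_zpowers, hg, pow_one]
  have hmod := hP.card_modEq_card_fixedPoints (α := Ω)
  have hfp : Nat.card (fixedPoints (Subgroup.zpowers g) Ω) = fx (Ω := Ω) g := by
    rw [fx, Nat.card_eq_fintype_card, ← Fintype.card_coe]
    refine Fintype.card_congr (Equiv.subtypeEquivRight fun t => ?_)
    simp only [mem_fixedPoints, Finset.mem_filter, Finset.mem_univ, true_and]
    constructor
    · intro h; exact h ⟨g, Subgroup.mem_zpowers g⟩
    · intro h k
      have : Subgroup.zpowers g ≤ stabilizer G t := Subgroup.zpowers_le.mpr h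
      exact this k.2
  rw [Nat.card_eq_fintype_card (α := Ω), h7, hfp] at hmod
  have hle : fx (Ω := Ω) g ≤ 7 := h7 ▸ Finset.card_le_univ _
  by_contra hne
  have h77 : fx (Ω := Ω) g = 7 := by
    unfold Nat.ModEq at hmod
    omega
  have hg1 : g = 1 := by
    apply FaithfulSMul.eq_of_smul_eq_smul (α := Ω)
    intro t
    rw [fx, ← h7] at h77
    have := (Finset.card_eq_iff_eq_univ _).mp h77 ▸ Finset.mem_univ t
    rw [one_smul]
    simpa using this
  rw [hg1, orderOf_one] at hg
  omega

/-- A doubly transitive group of degree seven with a small pair stabiliser. -/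
theorem seven [FaithfulSMul G Ω] [Nontrivial Ω] (h7 : Fintype.card Ω = 7) (h2 : Two G Ω) {a b : Ω}
    (hab : a ≠ b)
    (hh : Nat.card (st2 a b : Subgroup G) = 2 ∨ Nat.card (st2 a b : Subgroup G) = 6 ∨
      Nat.card (st2 a b : Subgroup G) = 12) :
    2 * Nat.card G ≤ Fintype.card Ω * dn G Ω := by
  have : Fact (Nat.Prime 7) := ⟨by norm_num⟩
  set h := Nat.card (st2 a b : Subgroup G) with hdef
  have hG : Nat.card G = 42 * h := by
    rw [card_G_two h2 hab, h7, ← hdef]; ring
  have hP7 : ∀ P : Sylow 7 G, Nat.card (P : Subgroup G) = 7 := by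
    intro P
    obtain ⟨k, hk⟩ := IsPGroup.iff_card.mp P.2
    have h1 : 7 ∣ Nat.card (P : Subgroup G) := P.dvd_card_of_dvd_card ⟨6 * h, by rw [hG]; ring⟩
    have h2' : 7 ^ k ∣ 42 * h := by rw [← hG, ← hk]; exact Subgroup.card_subgroup_dvd_card _
    rw [hk] at h1 ⊢
    rcases k with _ | _ | k
    · norm_num at h1
    · rfl
    · exfalso
      have : 7 ^ 2 ∣ 42 * h := dvd_trans (pow_dvd_pow 7 (by omega)) h2'
      rcases hh with hh | hh | hh <;> rw [hh] at this <;> norm_num at this
  obtain ⟨P⟩ : Nonempty (Sylow 7 G) := inferInstance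
  obtain ⟨g, hgP, hgo⟩ : ∃ g ∈ (P : Subgroup G), orderOf g = 7 := by
    obtain ⟨g, hg⟩ := exists_prime_orderOf_dvd_card' (G := (P : Subgroup G)) 7 (by rw [hP7])
    exact ⟨g, g.2, by rw [Subgroup.orderOf_coe, hg]⟩
  have hgfree : ∀ ω : Ω, ∀ i : ℕ, ¬ 7 ∣ i → g ^ i • ω ≠ ω := by
    intro ω i hi
    have hoi : orderOf (g ^ i) = 7 := by
      rw [Nat.Coprime.orderOf_pow, hgo]
      rw [hgo]
      exact ((Nat.Prime.coprime_iff_not_dvd (by norm_num)).mpr hi)
    exact (fx_eq_zero_iff _).mp (fx_of_order_seven h7 hoi) ω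
  set N : Subgroup G := Subgroup.normalizer ((P : Subgroup G) : Set G)
  have hNω : Nat.card (N ⊓ stabilizer G a : Subgroup G) ≤ 6 := by
    let S : Finset G := (univ.filter fun x : G => x ∈ (P : Subgroup G)).erase 1
    have hS : S.card = 6 := by
      rw [Finset.card_erase_of_mem (by simp [(P : Subgroup G).one_mem]), ← card_sub_eq, hP7]
    rw [card_sub_eq, ← hS]
    refine Finset.card_le_card_of_injOn (fun x => x * g * x⁻¹) ?_ ?_
    · intro x hx
      simp only [Finset.coe_filter, Finset.mem_univ, true_and, Set.mem_ofPred_eq] at hx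
      simp only [Finset.mem_coe, S, Finset.mem_erase, Finset.mem_filter, Finset.mem_univ, true_and,
        ne_eq, conj_eq_one_iff]
      refine ⟨fun he => ?_, (Subgroup.mem_normalizer_iff.mp hx.1 g).mp hgP⟩
      rw [he, orderOf_one] at hgo
      omega
    · intro x hx y hy hxy
      simp only [Finset.coe_filter, Finset.mem_univ, true_and, Set.mem_ofPred_eq,
        Subgroup.mem_inf, mem_stabilizer_iff] at hx hy
      dsimp only at hxy
      have hcomm : Commute (y⁻¹ * x) g := by
        show y⁻¹ * x * g = g * (y⁻¹ * x)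
        calc y⁻¹ * x * g = y⁻¹ * (x * g * x⁻¹) * x := by group
          _ = y⁻¹ * (y * g * y⁻¹) * x := by rw [hxy]
          _ = g * (y⁻¹ * x) := by group
      have ha : (y⁻¹ * x) • a = a := by
        rw [mul_smul, hx.2, inv_smul_eq_iff, hy.2]
      have hsurj : ∀ t : Ω, ∃ i : ℕ, g ^ i • a = t := by
        intro t
        have hinj : Set.InjOn (fun i : ℕ => g ^ i • a) (Finset.range 7 : Set ℕ) := by
          intro i hi j hj hij
          simp only [Finset.coe_range, Set.mem_Iio] at hi hj
          rcases lt_trichotomy i j with hlt | heq | hlt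
          · exfalso
            apply hgfree a (j - i) (Nat.not_dvd_of_pos_of_lt (by omega) (by omega))
            apply smul_left_cancel (g ^ i)
            rw [← mul_smul, ← pow_add, Nat.add_sub_cancel' hlt.le]
            exact hij.symm
          · exact heq
          · exfalso
            apply hgfree a (i - j) (Nat.not_dvd_of_pos_of_lt (by omega) (by omega))
            apply smul_left_cancel (g ^ j)
            rw [← mul_smul, ← pow_add, Nat.add_sub_cancel' hlt.le]
            exact hij
        have himg : (Finset.range 7).image (fun i : ℕ => g ^ i • a) = univ := by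
          apply Finset.eq_univ_of_card
          rw [Finset.card_image_of_injOn hinj, Finset.card_range, h7]
        obtain ⟨i, -, hi⟩ := Finset.mem_image.mp (himg ▸ Finset.mem_univ t)
        exact ⟨i, hi⟩
      have : y⁻¹ * x = 1 := by
        apply FaithfulSMul.eq_of_smul_eq_smul (α := Ω)
        intro t
        obtain ⟨i, rfl⟩ := hsurj t
        rw [one_smul, ← mul_smul, (hcomm.pow_right i).eq, mul_smul, ha]
      exact (inv_mul_eq_one.mp this).symm
  have hN : Nat.card N ≤ 42 := by
    rw [← orbit_mul_inf N a]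
    calc (orbit N a).ncard * Nat.card (N ⊓ stabilizer G a : Subgroup G) ≤ 7 * 6 := by
          apply Nat.mul_le_mul ?_ hNω
          rw [← h7, ← Nat.card_eq_fintype_card]
          exact Set.ncard_le_card _
      _ = 42 := by norm_num
  have hsy : Nat.card (Sylow 7 G) * Nat.card N = 42 * h := by
    rw [P.card_eq_index_normalizer, ← hG, mul_comm]
    exact Subgroup.card_mul_index _
  have hmod : Nat.card (Sylow 7 G) % 7 = 1 := card_sylow_modEq_one 7 G
  have h7N : 7 ∣ Nat.card N := hP7 P ▸ Subgroup.card_dvd_of_le Subgroup.le_normalizer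
  have hdvd : Nat.card (Sylow 7 G) ∣ 6 * h := by
    obtain ⟨c, hc⟩ := h7N
    refine ⟨c, ?_⟩
    rw [hc] at hsy
    nlinarith
  have hge : h ≤ Nat.card (Sylow 7 G) := by nlinarith
  have hcnt : 6 * Nat.card (Sylow 7 G) ≤ dn G Ω := by
    let T : Sylow 7 G → Finset G := fun Q =>
      (univ.filter fun x : G => x ∈ (Q : Subgroup G)).erase 1
    have hT : ∀ Q, (T Q).card = 6 := fun Q => by
      rw [Finset.card_erase_of_mem (by simp [(Q : Subgroup G).one_mem]), ← card_sub_eq, hP7]
    have hord : ∀ Q, ∀ x ∈ T Q, orderOf x = 7 ∧ Subgroup.zpowers x = (Q : Subgroup G) := by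
      intro Q x hx
      simp only [T, Finset.mem_erase, Finset.mem_filter, Finset.mem_univ, true_and] at hx
      have hd : orderOf x ∣ 7 := hP7 Q ▸ Subgroup.orderOf_dvd_natCard _ hx.2
      have ho : orderOf x = 7 := by
        rcases (Nat.dvd_prime (by norm_num)).mp hd with h1 | h1
        · exact absurd (orderOf_eq_one_iff.mp h1) hx.1
        · exact h1
      refine ⟨ho, Subgroup.eq_of_le_of_card_ge (Subgroup.zpowers_le.mpr hx.2) ?_⟩
      rw [Nat.card_zpowers, ho, hP7]
    have hdisj : ∀ Q ∈ (univ : Finset (Sylow 7 G)), ∀ R ∈ (univ : Finset (Sylow 7 G)), Q ≠ R →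
        Disjoint (T Q) (T R) := by
      intro Q _ R _ hQR
      rw [Finset.disjoint_left]
      intro x hx hx'
      exact hQR (Sylow.ext ((hord Q x hx).2.symm.trans (hord R x hx').2))
    rw [dn_eq_filter]
    calc 6 * Nat.card (Sylow 7 G) = (univ.biUnion T).card := by
          rw [Finset.card_biUnion hdisj, Finset.sum_congr rfl (fun Q _ => hT Q), Finset.sum_const,
            Finset.card_univ, smul_eq_mul, Nat.card_eq_fintype_card, mul_comm]
      _ ≤ _ := by
          apply Finset.card_le_card
          intro x hx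
          simp only [Finset.mem_biUnion, Finset.mem_univ, true_and] at hx
          obtain ⟨Q, hQ⟩ := hx
          simpa using fx_of_order_seven h7 (hord Q x hQ).1
  have hle : Nat.card (Sylow 7 G) ≤ 6 * h := Nat.le_of_dvd (by omega) hdvd
  have h2n : 2 * h ≤ Nat.card (Sylow 7 G) := by
    generalize Nat.card (Sylow 7 G) = m at hmod hdvd hge hle ⊢
    rcases hh with hh | hh | hh <;> rw [hh] at hdvd hge hle ⊢ <;>
      interval_cases m <;> omega
  rw [hG, h7]
  omega

end Cfsg.Lib.Derange
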