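import Cfsg.Agent.Derange.Seven

/-!
# Doubly transitive groups: at least `2|G|/n` derangements unless sharply doubly transitive
-/

set_option autoImplicit false
set_option linter.unusedSectionVars false

open scoped Classical
open MulAction Finset

namespace Cfsg.Lib.Derange

variable {G Ω : Type*} [Group G] [Fintype G] [MulAction G Ω] [Fintype Ω]

/-- Points moved by a subgroup. -/
noncomputable def moved (Ω : Type*) [MulAction G Ω] [Fintype Ω] (K : Subgroup G) : Finset Ω :=
  univ.filter fun u => ¬ K ≤ stabilizer G u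

theorem eq_bot_of_moved_empty [FaithfulSMul G Ω] {K : Subgroup G}
    (h : moved Ω K = (∅ : Finset Ω)) : K = ⊥ := by
  apply eq_bot_of_fixSet_univ (Ω := Ω)
  apply Finset.eq_univ_of_forall
  intro z
  rw [mem_fixSet]
  by_contra hz
  have : z ∈ moved Ω K := by simp [moved, hz]
  rw [h] at this
  exact Finset.notMem_empty z this

theorem card_le_step {K : Subgroup G} {t : Ω} (ht : t ∈ moved Ω K) :
    Nat.card K ≤ (moved Ω K).card * Nat.card (K ⊓ stabilizer G t : Subgroup G) := by
  rw [← orbit_mul_inf K t]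
  apply Nat.mul_le_mul_right
  rcases card_fixed_inf_orbit_bound K t with h | h
  · exact h
  · simp [moved] at ht; exact absurd h ht

theorem moved_ne_one {K : Subgroup G} : (moved Ω K).card ≠ 1 := by
  intro h
  obtain ⟨u, hu⟩ := Finset.card_eq_one.mp h
  have hu' : u ∈ moved Ω K := hu ▸ Finset.mem_singleton_self u
  simp only [moved, Finset.mem_filter, Finset.mem_univ, true_and] at hu'
  apply hu'
  intro g hg
  by_contra hgu
  have : g • u ∈ moved Ω K := by
    simp only [moved, Finset.mem_filter, Finset.mem_univ, true_and]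
    intro hle
    have h1 := hle (K.inv_mem hg)
    rw [mem_stabilizer_iff, inv_smul_smul] at h1
    exact hgu (mem_stabilizer_iff.mpr h1.symm)
  rw [hu, Finset.mem_singleton] at this
  exact hgu (mem_stabilizer_iff.mpr this)

theorem moved_inf_subset {K : Subgroup G} (t : Ω) :
    moved Ω (K ⊓ stabilizer G t : Subgroup G) ⊆ (moved Ω K).erase t := by
  intro u hu
  simp only [moved, Finset.mem_filter, Finset.mem_univ, true_and, Finset.mem_erase] at hu ⊢
  exact ⟨fun he => hu (he ▸ inf_le_right), fun hle => hu (inf_le_left.trans hle)⟩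

theorem card_le_two_of_moved [FaithfulSMul G Ω] {K : Subgroup G}
    (h : (moved Ω K).card ≤ 2) : Nat.card K ≤ 2 := by
  rcases (moved Ω K).eq_empty_or_nonempty with he | ⟨t, ht⟩
  · rw [eq_bot_of_moved_empty he]; simp
  · have h1 : (moved Ω (K ⊓ stabilizer G t : Subgroup G)).card ≤ 1 := by
      refine le_trans (Finset.card_le_card (moved_inf_subset t)) ?_
      rw [Finset.card_erase_of_mem ht]; omega
    have h2 : moved Ω (K ⊓ stabilizer G t : Subgroup G) = ∅ := by
      rw [← Finset.card_eq_zero]
      have := moved_ne_one (Ω := Ω) (K := (K ⊓ stabilizer G t : Subgroup G))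
      omega
    have h3 := card_le_step ht
    rw [eq_bot_of_moved_empty h2, Subgroup.card_bot, mul_one] at h3
    omega

theorem card_inf_orbit {K : Subgroup G} {t u : Ω} (hu : u ∈ orbit K t) :
    Nat.card (K ⊓ stabilizer G u : Subgroup G) = Nat.card (K ⊓ stabilizer G t : Subgroup G) := by
  have h1 := orbit_mul_inf K u
  rw [orbit_eq_iff.mpr hu, ← orbit_mul_inf K t] at h1
  exact Nat.eq_of_mul_eq_mul_left ((Set.ncard_pos (Set.toFinite _)).mpr ⟨t, mem_orbit_self t⟩) h1

variable [FaithfulSMul G Ω] [Nontrivial Ω]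

/-- Points in a half orbit. -/
noncomputable def half (G : Type*) {Ω : Type*} [Group G] [MulAction G Ω] [Fintype Ω] (x y : Ω) :
    Finset Ω :=
  univ.filter fun z => 2 * Nat.card (st2 x y ⊓ stabilizer G z : Subgroup G) =
    Nat.card (st2 x y : Subgroup G)

theorem mem_half {x y z : Ω} :
    z ∈ half G x y ↔ 2 * Nat.card (st2 x y ⊓ stabilizer G z : Subgroup G) =
      Nat.card (st2 x y : Subgroup G) := by
  simp only [half, Finset.mem_filter, Finset.mem_univ, true_and]

/-- Points in larger orbits. -/
noncomputable def big (G : Type*) {Ω : Type*} [Group G] [MulAction G Ω] [Fintype Ω] (x y : Ω) :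
    Finset Ω :=
  univ.filter fun z => z ∉ line G x y ∧ z ∉ half G x y

omit [FaithfulSMul G Ω] [Nontrivial Ω] in
theorem mem_line_iff_card {x y z : Ω} :
    z ∈ line G x y ↔
      Nat.card (st2 x y ⊓ stabilizer G z : Subgroup G) = Nat.card (st2 x y : Subgroup G) := by
  rw [line, mem_fixSet]
  constructor
  · intro h; rw [inf_eq_left.mpr h]
  · intro h; exact inf_eq_left.mp (Subgroup.eq_of_le_of_card_ge inf_le_left h.ge)

theorem mem_half_smul (c : G) (x y z : Ω) (h2 : Two G Ω) (hxy : x ≠ y) :
    c • z ∈ half G (c • x) (c • y) ↔ z ∈ half G x y := by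
  have hne : c • x ≠ c • y := fun he => hxy (smul_left_cancel c he)
  simp only [half, Finset.mem_filter, Finset.mem_univ, true_and, card_inf_smul,
    card_st2_eq h2 hxy hne]

theorem mem_big_smul (c : G) (x y z : Ω) (h2 : Two G Ω) (hxy : x ≠ y) :
    c • z ∈ big G (c • x) (c • y) ↔ z ∈ big G x y := by
  simp only [big, Finset.mem_filter, Finset.mem_univ, true_and, mem_line_smul,
    mem_half_smul c x y z h2 hxy]

theorem card_big_eq (h2 : Two G Ω) {a b x y : Ω} (hab : a ≠ b) (hxy : x ≠ y) :
    (big G x y).card = (big G a b).card := by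
  obtain ⟨c, rfl, rfl⟩ := h2 a b x y hab hxy
  refine (Finset.card_equiv (MulAction.toPerm c) ?_).symm
  intro z
  simp [mem_big_smul c a b z h2 hab]

theorem trichotomy (x y z : Ω) : z ∈ line G x y ∨ z ∈ half G x y ∨ z ∈ big G x y := by
  by_cases h1 : z ∈ line G x y
  · exact Or.inl h1
  · by_cases h2 : z ∈ half G x y
    · exact Or.inr (Or.inl h2)
    · exact Or.inr (Or.inr (by simp [big, h1, h2]))

/-- All points outside a line in half orbits forces trivial half stabilisers. -/
theorem half_trivial_of_no_big (h2 : Two G Ω) {a b γ : Ω} (hab : a ≠ b)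
    (hw : big G a b = (∅ : Finset Ω)) (hγ : γ ∈ half G a b) (hγl : γ ∉ line G a b) :
    (st2 a b ⊓ stabilizer G γ : Subgroup G) = ⊥ := by
  have hall : ∀ x y : Ω, x ≠ y → big G x y = ∅ := fun x y hxy => by
    rw [← Finset.card_eq_zero, card_big_eq h2 hab hxy, hw, Finset.card_empty]
  have hcond : ∀ x y δ : Ω, x ≠ y →
      2 * Nat.card (st2 x y ⊓ stabilizer G δ : Subgroup G) = Nat.card (st2 x y : Subgroup G) ∨
        δ ∈ line G x y := by
    intro x y δ hxy
    rcases trichotomy (G := G) x y δ with h | h | h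
    · exact Or.inr h
    · exact Or.inl (mem_half.mp h)
    · rw [hall x y hxy] at h; exact absurd h (Finset.notMem_empty δ)
  have hγ' : 2 * Nat.card (st2 a b ⊓ stabilizer G γ : Subgroup G) =
      Nat.card (st2 a b : Subgroup G) := mem_half.mp hγ
  apply eq_bot_of_fixSet_univ (Ω := Ω)
  apply Finset.eq_univ_of_forall
  intro δ
  rcases exists_cross h2 hab hγl with hc | hc
  · have haγ : a ≠ γ := fun he => hγl (he ▸ left_mem_line a b)
    exact fix_of_adjacent h2 hab haγ hγ' hc (hcond a b δ hab) (hcond a γ δ haγ)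
  · have hbγ : b ≠ γ := fun he => hγl (he ▸ right_mem_line a b)
    rw [st2_comm a b] at hγ' hc ⊢
    exact fix_of_adjacent h2 hab.symm hbγ hγ' hc
      (hcond b a δ hab.symm) (hcond b γ δ hbγ)

omit [FaithfulSMul G Ω] [Nontrivial Ω] in
/-- Lower bound for the second moment. -/
theorem second_moment (H : Subgroup G) (k : ℕ)
    (hk : ∑ t : Ω, Nat.card (H ⊓ stabilizer G t : Subgroup G) = k * Nat.card H) :
    (k : ℚ) ^ 2 * Nat.card H + ∑ s : Ω,
      ((univ.filter fun t : Ω => H ⊓ stabilizer G t = H ⊓ stabilizer G s).card : ℚ) *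
        ((Nat.card (H ⊓ stabilizer G s : Subgroup G) : ℚ) -
          (Nat.card (H ⊓ stabilizer G s : Subgroup G) : ℚ) ^ 2 / Nat.card H) ≤
    ∑ s : Ω, ∑ t : Ω, (Nat.card (H ⊓ stabilizer G s ⊓ stabilizer G t : Subgroup G) : ℚ) := by
  set h : ℚ := ((Nat.card H : ℕ) : ℚ) with hdef
  have hpos : 0 < h := by rw [hdef]; exact_mod_cast Nat.card_pos
  let c : Ω → ℚ := fun t => Nat.card (H ⊓ stabilizer G t : Subgroup G)
  have hsum : ∑ t : Ω, c t = k * h := by
    simp only [c, hdef]; exact_mod_cast hk
  have e1 : (k : ℚ) ^ 2 * h = ∑ s : Ω, ∑ t : Ω, c s * c t / h := by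
    simp_rw [← Finset.sum_div, ← Finset.mul_sum, ← Finset.sum_mul, hsum]
    field_simp
  have e2 : ∀ s : Ω, ((univ.filter fun t : Ω => H ⊓ stabilizer G t = H ⊓ stabilizer G s).card : ℚ) *
        (c s - c s ^ 2 / h) =
      ∑ t : Ω, if H ⊓ stabilizer G t = H ⊓ stabilizer G s then c s - c s ^ 2 / h else 0 := by
    intro s
    rw [← Finset.sum_filter, Finset.sum_const, nsmul_eq_mul]
  rw [e1, Finset.sum_congr rfl (fun s _ => e2 s), ← Finset.sum_add_distrib]
  refine Finset.sum_le_sum fun s _ => ?_
  rw [← Finset.sum_add_distrib]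
  refine Finset.sum_le_sum fun t _ => ?_
  by_cases he : H ⊓ stabilizer G t = H ⊓ stabilizer G s
  · rw [if_pos he]
    have hct : c t = c s := by simp only [c, he]
    have : (H ⊓ stabilizer G s ⊓ stabilizer G t : Subgroup G) = H ⊓ stabilizer G s := by
      apply inf_eq_left.mpr
      rw [← he]; exact inf_le_right
    rw [this, hct, sq]
    simp only [c]
    linarith
  · rw [if_neg he, add_zero, div_le_iff₀ hpos, hdef]
    simp only [c]
    rw [mul_comm (Nat.card (H ⊓ stabilizer G s ⊓ stabilizer G t : Subgroup G) : ℚ)]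
    exact_mod_cast inf_mul_ge H s t

theorem half_class_ge (h2 : Two G Ω) {a b γ : Ω} (hab : a ≠ b) (hγ : γ ∈ half G a b) :
    (fixSet Ω (st2 a b ⊓ stabilizer G γ : Subgroup G)).card ≤ (line G a b).card +
      (univ.filter fun t : Ω =>
        (st2 a b ⊓ stabilizer G t : Subgroup G) = st2 a b ⊓ stabilizer G γ).card := by
  refine le_trans (Finset.card_le_card ?_) (Finset.card_union_le _ _)
  intro δ hδ
  rw [mem_fixSet] at hδ
  rw [Finset.mem_union]
  by_cases hl : δ ∈ line G a b
  · exact Or.inl hl
  · right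
    simp only [Finset.mem_filter, Finset.mem_univ, true_and]
    have hγ' : 2 * Nat.card (st2 a b ⊓ stabilizer G γ : Subgroup G) =
        Nat.card (st2 a b : Subgroup G) := mem_half.mp hγ
    have hle : (st2 a b ⊓ stabilizer G γ : Subgroup G) ≤ st2 a b ⊓ stabilizer G δ :=
      le_inf inf_le_left hδ
    refine (Subgroup.eq_of_le_of_card_ge hle ?_).symm
    obtain ⟨i, hi⟩ := Subgroup.card_dvd_of_le hle
    obtain ⟨j, hj⟩ := Subgroup.card_dvd_of_le
      (inf_le_left : (st2 a b ⊓ stabilizer G δ : Subgroup G) ≤ st2 a b)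
    have hjne : j ≠ 1 := fun h1 => hl (mem_line_iff_card.mpr (by rw [hj, h1, mul_one]))
    have hpos : 0 < Nat.card (st2 a b ⊓ stabilizer G γ : Subgroup G) := Nat.card_pos
    have hij : i * j = 2 := by
      rw [← hγ', hi, mul_assoc, mul_comm 2] at hj
      exact (Nat.eq_of_mul_eq_mul_left hpos hj).symm
    have hj0 : j ≠ 0 := fun h0 => by simp [h0] at hij
    have hi1 : i = 1 := by
      rcases Nat.eq_zero_or_pos i with h0 | h0
      · simp [h0] at hij
      · nlinarith [show 2 ≤ j by omega]
    rw [hi, hi1, mul_one]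

set_option maxHeartbeats 2000000 in
/-- The main bound. -/
theorem two_trans_bound (hn : 7 ≤ Fintype.card Ω) (h2 : Two G Ω) {a b : Ω} (hab : a ≠ b)
    (hh : 2 ≤ Nat.card (st2 a b : Subgroup G)) :
    2 * Nat.card G ≤ Fintype.card Ω * dn G Ω := by
  obtain ⟨k, hk⟩ := exists_orbit_count (Ω := Ω) (st2 a b : Subgroup G)
  by_cases hA : (k : ℚ) * (2 * Nat.card (st2 a b : Subgroup G) - 1) ≤
      (Fintype.card Ω : ℚ) * Nat.card (st2 a b : Subgroup G)
  · exact two_mul_le_of_recip h2 hab (crit_A hab k hk hh hA)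
  rw [not_le] at hA
  set n := Fintype.card Ω with hndef
  set h := Nat.card (st2 a b : Subgroup G) with hhdef
  set L := line G a b
  set U := half G a b
  set W := big G a b
  set f := L.card with hf
  -- the partition
  have hdLU : Disjoint L U := by
    rw [Finset.disjoint_left]
    intro z hz hz'
    have h1 := mem_line_iff_card.mp hz
    have h2' : 2 * Nat.card (st2 a b ⊓ stabilizer G z : Subgroup G) = h := by
      exact mem_half.mp hz'
    omega
  have hdW : Disjoint (L ∪ U) W := by
    rw [Finset.disjoint_left]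
    intro z hz hz'
    simp only [W, big, Finset.mem_filter, Finset.mem_univ, true_and] at hz'
    rcases Finset.mem_union.mp hz with h | h
    · exact hz'.1 h
    · exact hz'.2 h
  have hcover : L ∪ U ∪ W = (univ : Finset Ω) := Finset.eq_univ_of_forall fun z => by
    rcases trichotomy (G := G) a b z with h | h | h
    · exact Finset.mem_union_left _ (Finset.mem_union_left _ h)
    · exact Finset.mem_union_left _ (Finset.mem_union_right _ h)
    · exact Finset.mem_union_right _ h
  have hncard : n = f + U.card + W.card := by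
    rw [hndef, ← Finset.card_univ, ← hcover, Finset.card_union_of_disjoint hdW,
      Finset.card_union_of_disjoint hdLU]
  have hW3 : ∀ t ∈ W, 3 * Nat.card (st2 a b ⊓ stabilizer G t : Subgroup G) ≤ h := by
    intro t ht
    simp only [W, big, Finset.mem_filter, Finset.mem_univ, true_and] at ht
    obtain ⟨j, hj⟩ := Subgroup.card_dvd_of_le
      (inf_le_left : (st2 a b ⊓ stabilizer G t : Subgroup G) ≤ st2 a b)
    rw [← hhdef] at hj
    have h1 : j ≠ 1 := fun e => ht.1 (mem_line_iff_card.mpr (by rw [← hhdef, hj, e, mul_one]))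
    have h2' : j ≠ 2 := fun e => ht.2 (by
      simp only [half, Finset.mem_filter, Finset.mem_univ, true_and]
      rw [← hhdef, hj, e, mul_comm])
    have h0 : j ≠ 0 := fun e => by rw [e, mul_zero] at hj; omega
    rw [hj, mul_comm 3]
    exact Nat.mul_le_mul_left _ (by omega)
  set SW := ∑ t ∈ W, Nat.card (st2 a b ⊓ stabilizer G t : Subgroup G) with hSW
  have hU2 : 2 * ∑ t ∈ U, Nat.card (st2 a b ⊓ stabilizer G t : Subgroup G) = U.card * h := by
    rw [Finset.mul_sum, Finset.sum_congr rfl (g := fun _ => h), Finset.sum_const, smul_eq_mul]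
    intro t ht
    exact mem_half.mp ht
  have hL1 : ∑ t ∈ L, Nat.card (st2 a b ⊓ stabilizer G t : Subgroup G) = f * h := by
    rw [Finset.sum_congr rfl (g := fun _ => h), Finset.sum_const, smul_eq_mul]
    intro t ht
    exact mem_line_iff_card.mp ht
  have hksum : 2 * (k * h) = 2 * (f * h) + U.card * h + 2 * SW := by
    rw [← hk, ← hcover, Finset.sum_union hdW, Finset.sum_union hdLU, hL1, ← hU2, ← hSW]
    ring
  have hSWle : 3 * SW ≤ W.card * h := by
    rw [hSW, Finset.mul_sum]
    refine le_trans (Finset.sum_le_sum hW3) ?_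
    rw [Finset.sum_const, smul_eq_mul]
  have hWcard : W.Nonempty → 3 ≤ W.card := by
    rintro ⟨t, ht⟩
    have hsub : (orbit (st2 a b : Subgroup G) t).toFinset ⊆ W := by
      intro u hu
      rw [Set.mem_toFinset] at hu
      have he := card_inf_orbit hu
      have ht' := ht
      simp only [W, big, half, Finset.mem_filter, Finset.mem_univ, true_and, mem_line_iff_card]
        at ht' ⊢
      rw [he]; exact ht'
    refine le_trans ?_ (Finset.card_le_card hsub)
    rw [← Set.ncard_eq_toFinset_card']
    have h1 := orbit_mul_inf (st2 a b : Subgroup G) t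
    have h3 := hW3 t ht
    rw [← hhdef] at h1
    rw [← h1] at h3
    exact Nat.le_of_mul_le_mul_right h3 Nat.card_pos
  have hpos : 0 < h := by omega
  have he1 : n + 1 ≤ 2 * k := by
    by_contra hcon
    have hcon' : 2 * (k : ℚ) ≤ n := by exact_mod_cast (show 2 * k ≤ n by omega)
    have : (0 : ℚ) ≤ k := Nat.cast_nonneg _
    have hh' : (0 : ℚ) ≤ h := Nat.cast_nonneg _
    nlinarith [mul_le_mul_of_nonneg_right hcon' hh']
  obtain ⟨e, he⟩ : ∃ e : ℕ, 2 * k = n + e := ⟨2 * k - n, by omega⟩
  have he_pos : 1 ≤ e := by omega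
  have hebound : 3 * e + W.card ≤ 3 * f := by
    have : (3 * e + W.card) * h ≤ (3 * f) * h := by
      have h6 : 3 * (n + e) * h = 6 * (f * h) + 3 * (U.card * h) + 6 * SW := by
        rw [← he]; nlinarith [hksum]
      have h7 : n * h = f * h + U.card * h + W.card * h := by rw [hncard]; ring
      nlinarith
    exact Nat.le_of_mul_le_mul_right this hpos
  have hf2 : 2 ≤ f := by
    refine le_trans ?_ (Finset.card_le_card (s := {a, b}) ?_)
    · rw [Finset.card_pair hab]
    · intro u hu
      simp only [Finset.mem_insert, Finset.mem_singleton] at hu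
      rcases hu with rfl | rfl
      · exact left_mem_line _ _
      · exact right_mem_line _ _
  have hLproper : ∃ o, o ∉ L := by
    by_contra hcon
    push Not at hcon
    have := eq_bot_of_fixSet_univ (K := (st2 a b : Subgroup G)) (Finset.eq_univ_of_forall hcon)
    rw [hhdef, this, Subgroup.card_bot] at hh
    omega
  have hLcl : Closed G L := closed_fixSet _
  have hnf : f * (f - 1) + 1 ≤ n := by
    obtain ⟨o, ho⟩ := hLproper
    exact closed_count h2 hab hLcl closed_univ (Finset.subset_univ _) (Finset.mem_univ o) ho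
  have hpq : ∀ t : Ω, t ∉ L → (st2 a b ⊓ stabilizer G t : Subgroup G) ≠ ⊥ →
      f * (f - 1) + 1 ≤ (fixSet Ω (st2 a b ⊓ stabilizer G t : Subgroup G)).card ∧
      (fixSet Ω (st2 a b ⊓ stabilizer G t : Subgroup G)).card * (f - 1) + 1 ≤ n := by
    intro t ht hK
    refine ⟨closed_count h2 hab hLcl (closed_fixSet _) ?_ (mem_fixSet.mpr inf_le_right) ht, ?_⟩
    · intro z hz
      exact mem_fixSet.mpr (inf_le_left.trans (mem_fixSet.mp hz))
    · obtain ⟨o, ho⟩ : ∃ o, o ∉ fixSet Ω (st2 a b ⊓ stabilizer G t : Subgroup G) := by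
        by_contra hcon
        push Not at hcon
        exact hK (eq_bot_of_fixSet_univ (Finset.eq_univ_of_forall hcon))
      exact closed_count h2 hab (closed_fixSet _) closed_univ (Finset.subset_univ _)
        (Finset.mem_univ o) ho
  have hodd3 : f = 3 → n % 2 = 1 := by
    intro h3
    have h := line_dvd (G := G) (Ω := Ω) h2 hab
    rw [← hf, h3, ← hndef] at h
    omega
  rcases U.eq_empty_or_nonempty with hU | ⟨γ, hγU⟩
  · -- no half orbits
    exfalso
    rw [hU, Finset.card_empty] at hncard hksum
    obtain ⟨o, ho⟩ := hLproper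
    by_cases hK : ∃ t, t ∉ L ∧ (st2 a b ⊓ stabilizer G t : Subgroup G) ≠ ⊥
    · obtain ⟨t, ht, hKt⟩ := hK
      obtain ⟨hp, hp'⟩ := hpq t ht hKt
      rcases Nat.lt_or_ge f 3 with hf3 | hf3
      · omega
      · have h1 : (f * (f - 1) + 1) * (f - 1) + 1 ≤ n :=
          le_trans (Nat.add_le_add_right (Nat.mul_le_mul_right _ hp) 1) hp'
        have hm : 2 ≤ f - 1 := by omega
        have h4 : (f * (f - 1) + 1) * 2 + 1 ≤ n :=
          le_trans (Nat.add_le_add_right (Nat.mul_le_mul_left _ hm) 1) h1
        have h5 : f * 2 ≤ f * (f - 1) := Nat.mul_le_mul_left _ hm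
        omega
    · push Not at hK
      have hone : ∀ t ∈ W, Nat.card (st2 a b ⊓ stabilizer G t : Subgroup G) = 1 := by
        intro t ht
        simp only [W, big, Finset.mem_filter, Finset.mem_univ, true_and] at ht
        rw [hK t ht.1, Subgroup.card_bot]
      have hSW1 : SW = W.card := by
        rw [hSW, Finset.sum_congr rfl hone, Finset.sum_const, smul_eq_mul, mul_one]
      have hh3 : 3 ≤ h := by
        have hW : W.Nonempty := ⟨o, by
          rcases trichotomy (G := G) a b o with h | h | h
          · exact absurd h ho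
          · exact absurd (show o ∈ U from h) (by rw [hU]; exact Finset.notMem_empty o)
          · exact h⟩
        obtain ⟨t, ht⟩ := hW
        have := hW3 t ht
        rw [hone t ht] at this
        omega
      obtain ⟨j, hj⟩ : ∃ j, k = f + j := ⟨k - f, by
        have : f * h ≤ k * h := by omega
        have := Nat.le_of_mul_le_mul_right this hpos
        omega⟩
      have hw : W.card = j * h := by
        rw [hj, hSW1] at hksum
        nlinarith
      have hlt : (j : ℤ) * (h - 1) < f := by
        have hA' : ((n : ℤ) * h) < (k : ℤ) * (2 * h - 1) := by exact_mod_cast hA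
        rw [hj, hncard, hw] at hA'
        push_cast at hA'
        by_contra hcon
        nlinarith [mul_le_mul_of_nonneg_right (not_lt.mp hcon)
          (show (0 : ℤ) ≤ (h : ℤ) - 1 by omega)]
      have hf4 : f ≤ 3 := by
        by_contra hcon
        obtain ⟨f', hf'⟩ : ∃ f', f = f' + 1 := ⟨f - 1, by omega⟩
        rw [hncard, hw, hf', Nat.add_sub_cancel] at hnf
        rw [hf'] at hlt
        push_cast at hlt
        have : ((f' : ℤ) + 1) * f' + 1 ≤ f' + 1 + j * h := by exact_mod_cast hnf
        nlinarith [mul_le_mul_of_nonneg_left (show (3 : ℤ) ≤ h by exact_mod_cast hh3)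
          (show (0 : ℤ) ≤ j by positivity), mul_le_mul_of_nonneg_left
          (show (3 : ℤ) ≤ f' by omega) (show (0 : ℤ) ≤ f' by positivity)]
      have hj1 : j ≤ 1 := by
        by_contra hcon
        have : (2 : ℤ) * 2 ≤ (j : ℤ) * (h - 1) :=
          mul_le_mul (by omega) (by omega) (by norm_num) (by positivity)
        omega
      interval_cases j <;> omega
  -- there are half orbits
  have hγl : γ ∉ L := Finset.disjoint_right.mp hdLU hγU
  by_cases hh2 : h = 2
  · have hW0 : W = ∅ := by
      rw [Finset.eq_empty_iff_forall_notMem]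
      intro t ht
      have := hW3 t ht
      have : 0 < Nat.card (st2 a b ⊓ stabilizer G t : Subgroup G) := Nat.card_pos
      omega
    have hSW0 : SW = 0 := by rw [hSW, hW0, Finset.sum_empty]
    rw [hW0, Finset.card_empty] at hncard
    rw [hh2, hSW0] at hksum
    have hA' : ((n : ℤ) * 2) < (k : ℤ) * (2 * 2 - 1) := by
      rw [hh2] at hA; exact_mod_cast hA
    have hf3 : f ≤ 3 := by
      by_contra hcon
      have : 3 * f ≤ f * (f - 1) := by
        rw [mul_comm 3]; exact Nat.mul_le_mul_left _ (by omega)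
      omega
    have hn7 : n = 7 := by
      have := hodd3
      omega
    exact seven hn7 h2 hab (Or.inl hh2)
  have hKne : ∀ t ∈ U, (st2 a b ⊓ stabilizer G t : Subgroup G) ≠ ⊥ := by
    intro t ht hbot
    have ht' : 2 * Nat.card (st2 a b ⊓ stabilizer G t : Subgroup G) = h := by
      exact mem_half.mp ht
    rw [hbot, Subgroup.card_bot] at ht'
    omega
  have hW : W.Nonempty := by
    by_contra hcon
    exact hKne γ hγU (half_trivial_of_no_big h2 hab (Finset.not_nonempty_iff_eq_empty.mp hcon)
      hγU hγl)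
  have hw3 := hWcard hW
  -- reduce to an inequality
  have reduce : ∀ P : ℕ, (∀ t ∈ U, P ≤ (fixSet Ω (st2 a b ⊓ stabilizer G t : Subgroup G)).card) →
      (0 : ℚ) ≤ (e : ℚ) ^ 2 - 2 * n * e + U.card * ((P : ℚ) - f) +
        4 / 3 * ((e : ℚ) - f + W.card) →
      2 * Nat.card G ≤ Fintype.card Ω * dn G Ω := by
    intro P hP hineq
    apply two_mul_le_of_recip h2 hab
    apply crit_B hab k hk
    have hQ := second_moment (Ω := Ω) (st2 a b : Subgroup G) k hk
    rw [← hhdef] at hQ ⊢
    set cl : Ω → ℚ := fun s => ((univ.filter fun t : Ω =>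
        (st2 a b ⊓ stabilizer G t : Subgroup G) = st2 a b ⊓ stabilizer G s).card : ℚ) *
      ((Nat.card (st2 a b ⊓ stabilizer G s : Subgroup G) : ℚ) -
        (Nat.card (st2 a b ⊓ stabilizer G s : Subgroup G) : ℚ) ^ 2 / h) with hcl
    have hh0 : (0 : ℚ) < h := by exact_mod_cast hpos
    have hLb : ∀ s ∈ L, (0 : ℚ) ≤ cl s := by
      intro s hs
      rw [hcl]
      simp only [mem_line_iff_card.mp hs, ← hhdef]
      rw [sq, mul_div_assoc, div_self hh0.ne', mul_one, sub_self, mul_zero]
    have hUb : ∀ s ∈ U, ((P : ℚ) - f) * ((h : ℚ) / 4) ≤ cl s := by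
      intro s hs
      have hs' : 2 * Nat.card (st2 a b ⊓ stabilizer G s : Subgroup G) = h := by
        exact mem_half.mp hs
      have hs'' : (Nat.card (st2 a b ⊓ stabilizer G s : Subgroup G) : ℚ) = (h : ℚ) / 2 := by
        rw [← hs']; push_cast; ring
      have hc1 : (P : ℚ) - f ≤ ((univ.filter fun t : Ω =>
          (st2 a b ⊓ stabilizer G t : Subgroup G) = st2 a b ⊓ stabilizer G s).card : ℚ) := by
        have := le_trans (hP s hs) (half_class_ge h2 hab hs)
        rw [sub_le_iff_le_add']
        exact_mod_cast this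
      have hc2 : (Nat.card (st2 a b ⊓ stabilizer G s : Subgroup G) : ℚ) -
          (Nat.card (st2 a b ⊓ stabilizer G s : Subgroup G) : ℚ) ^ 2 / h = (h : ℚ) / 4 := by
        rw [hs'']; field_simp; ring
      rw [hcl]
      dsimp only
      rw [hc2]
      exact mul_le_mul_of_nonneg_right hc1 (by linarith)
    have hWb : ∀ s ∈ W, (2 : ℚ) / 3 * (Nat.card (st2 a b ⊓ stabilizer G s : Subgroup G) : ℚ) ≤
        cl s := by
      intro s hs
      have h3 : 3 * (Nat.card (st2 a b ⊓ stabilizer G s : Subgroup G) : ℚ) ≤ h := by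
        exact_mod_cast hW3 s hs
      have hc0 : (0 : ℚ) ≤ (Nat.card (st2 a b ⊓ stabilizer G s : Subgroup G) : ℚ) :=
        Nat.cast_nonneg _
      have hc1 : (1 : ℚ) ≤ ((univ.filter fun t : Ω =>
          (st2 a b ⊓ stabilizer G t : Subgroup G) = st2 a b ⊓ stabilizer G s).card : ℚ) := by
        exact_mod_cast Finset.card_pos.mpr ⟨s, by simp⟩
      have hc2 : (2 : ℚ) / 3 * (Nat.card (st2 a b ⊓ stabilizer G s : Subgroup G) : ℚ) ≤
          (Nat.card (st2 a b ⊓ stabilizer G s : Subgroup G) : ℚ) -
            (Nat.card (st2 a b ⊓ stabilizer G s : Subgroup G) : ℚ) ^ 2 / h := by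
        rw [le_sub_iff_add_le, ← le_sub_iff_add_le', div_le_iff₀ hh0]
        nlinarith
      rw [hcl]
      dsimp only
      refine le_trans hc2 (le_mul_of_one_le_left (le_trans ?_ hc2) hc1)
      linarith
    have htot : (U.card : ℚ) * (((P : ℚ) - f) * ((h : ℚ) / 4)) + 2 / 3 * SW ≤
        ∑ s : Ω, cl s := by
      rw [← hcover, Finset.sum_union hdW, Finset.sum_union hdLU]
      have h1 := Finset.sum_nonneg hLb
      have h2' := Finset.sum_le_sum hUb
      have h3 := Finset.sum_le_sum hWb
      rw [Finset.sum_const, nsmul_eq_mul] at h2'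
      rw [← Finset.mul_sum, ← Nat.cast_sum, ← hSW] at h3
      linarith
    have hSWq : 2 * (SW : ℚ) = ((e : ℚ) - f + W.card) * h := by
      have h6 : ((2 * (k * h) : ℕ) : ℚ) = ((2 * (f * h) + U.card * h + 2 * SW : ℕ) : ℚ) := by
        rw [hksum]
      push_cast at h6
      have h7 : (2 * (k : ℚ)) = n + e := by exact_mod_cast he
      have h8 : (n : ℚ) = f + U.card + W.card := by exact_mod_cast hncard
      linear_combination -h6 + (h : ℚ) * h7 + (h : ℚ) * h8
    have hkq : (k : ℚ) = ((n : ℚ) + e) / 2 := by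
      have : (2 * k : ℚ) = n + e := by exact_mod_cast he
      linarith
    rw [← hndef]
    have hfin := mul_nonneg hineq hh0.le
    change _ + ∑ s : Ω, cl s ≤ _ at hQ
    rw [hkq] at hQ ⊢
    nlinarith
  have hnq : (n : ℚ) = f + U.card + W.card := by exact_mod_cast hncard
  have hwq : (3 : ℚ) ≤ W.card := by exact_mod_cast hw3
  have heq : 3 * (e : ℚ) + W.card ≤ 3 * f := by exact_mod_cast hebound
  have he0 : (1 : ℚ) ≤ e := by exact_mod_cast he_pos
  obtain ⟨hpγ, hnγ⟩ := hpq γ hγl (hKne γ hγU)
  rcases Nat.lt_or_ge f 4 with hf4 | hf4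
  swap
  · -- at least four points on a line
    refine reduce (f * (f - 1) + 1) (fun t ht =>
      (hpq t (Finset.disjoint_right.mp hdLU ht) (hKne t ht)).1) ?_
    obtain ⟨f', hf'⟩ : ∃ f', f = f' + 1 := ⟨f - 1, by omega⟩
    have h15 : (f * (f - 1) + 1) * (f - 1) + 1 ≤ n :=
      le_trans (Nat.add_le_add_right (Nat.mul_le_mul_right _ hpγ) 1) hnγ
    rw [hf', Nat.add_sub_cancel] at h15 ⊢
    rw [hf'] at hnq heq
    push_cast at hnq heq ⊢
    have hbig : (((f' : ℚ) + 1) * f' + 1) * f' + 1 ≤ n := by exact_mod_cast h15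
    have hm3 : (3 : ℚ) ≤ f' := by exact_mod_cast (show 3 ≤ f' by omega)
    have hn0 : (0 : ℚ) ≤ n := Nat.cast_nonneg _
    have h9 : (9 : ℚ) ≤ (f' : ℚ) ^ 2 := by nlinarith
    have hfn : 3 * (f' : ℚ) ^ 2 ≤ 2 * n := by nlinarith
    have hc : 1 ≤ (f' : ℚ) ^ 2 - 2 * f' - 2 := by nlinarith
    have hbase : 2 * n * ((f' : ℚ) + 1) ≤ ((n : ℚ) - (f' + 1)) * (f' : ℚ) ^ 2 := by
      nlinarith [mul_le_mul_of_nonneg_left hc hn0]
    have hne : 2 * (n : ℚ) * e ≤ 2 * n * (((f' : ℚ) + 1) - (W.card : ℚ) / 3) :=
      mul_le_mul_of_nonneg_left (by linarith) (by linarith)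
    have hw' : (W.card : ℚ) * (3 * (f' : ℚ) ^ 2) ≤ (W.card : ℚ) * (2 * n) :=
      mul_le_mul_of_nonneg_left hfn (Nat.cast_nonneg _)
    have hU : (U.card : ℚ) = n - (f' + 1) - W.card := by linarith
    have hSWnn : (0 : ℚ) ≤ (e : ℚ) - ((f' : ℚ) + 1) + W.card := by
      have h6 : 2 * (f * h) + U.card * h ≤ 2 * (k * h) := by omega
      have h7 : (2 * f + U.card) * h ≤ (n + e) * h := by rw [← he]; nlinarith
      have h8 := Nat.le_of_mul_le_mul_right h7 hpos
      rw [hf'] at h8
      have : (2 * ((f' : ℚ) + 1) + U.card) ≤ n + e := by exact_mod_cast h8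
      linarith
    rw [hU]
    nlinarith [sq_nonneg (e : ℚ)]
  rcases (show f = 2 ∨ f = 3 by omega) with hf' | hf'
  swap
  · -- three points on a line
    refine reduce 7 (fun t ht => ?_) ?_
    · have := (hpq t (Finset.disjoint_right.mp hdLU ht) (hKne t ht)).1
      rw [hf'] at this
      omega
    · have hn15 : 15 ≤ n := by
        rw [hf'] at hpγ hnγ
        omega
      have := hodd3 hf'
      have he1' : e = 1 := by omega
      have hn15q : (15 : ℚ) ≤ n := by exact_mod_cast hn15
      rw [hf'] at hnq heq ⊢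
      rw [he1'] at heq ⊢
      push_cast at hnq heq ⊢
      linarith
  -- two points on a line
  have he1' : e = 1 := by omega
  have hw : W.card = 3 := by omega
  have hWall : ∀ t ∈ W, 3 * Nat.card (st2 a b ⊓ stabilizer G t : Subgroup G) = h := by
    have hSWeq : ∑ t ∈ W, 3 * Nat.card (st2 a b ⊓ stabilizer G t : Subgroup G) =
        ∑ _t ∈ W, h := by
      rw [← Finset.mul_sum, ← hSW, Finset.sum_const, hw, smul_eq_mul]
      have h6 : (2 * k) * h = (2 * f + U.card) * h + 2 * SW := by rw [add_mul, mul_assoc, mul_assoc]; omega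
      rw [he, hncard, hw, hf', he1', add_mul, add_mul, add_mul] at h6
      nlinarith
    intro t ht
    exact (Finset.sum_eq_sum_iff_of_le hW3).mp hSWeq t ht
  -- the half stabiliser is fixed point free on `W`
  have hnofix : ∀ s ∈ U, ∀ t ∈ W, ¬ Nat.card (st2 a b ⊓ stabilizer G s : Subgroup G) ≤
      2 * Nat.card (st2 a b ⊓ stabilizer G s ⊓ stabilizer G t : Subgroup G) := by
    intro s hs t ht hle
    have hs' : 2 * Nat.card (st2 a b ⊓ stabilizer G s : Subgroup G) = h := by
      exact mem_half.mp hs
    have ht' := hWall t ht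
    obtain ⟨i, hi⟩ := Subgroup.card_dvd_of_le
      (le_inf (inf_le_left.trans inf_le_left) inf_le_right :
        (st2 a b ⊓ stabilizer G s ⊓ stabilizer G t : Subgroup G) ≤ st2 a b ⊓ stabilizer G t)
    obtain ⟨j, hj⟩ := Subgroup.card_dvd_of_le
      (inf_le_left : (st2 a b ⊓ stabilizer G s ⊓ stabilizer G t : Subgroup G) ≤
        st2 a b ⊓ stabilizer G s)
    have hcpos : 0 < Nat.card (st2 a b ⊓ stabilizer G s ⊓ stabilizer G t : Subgroup G) :=
      Nat.card_pos
    rw [hj] at hs' hle
    rw [hi] at ht'
    generalize Nat.card (st2 a b ⊓ stabilizer G s ⊓ stabilizer G t : Subgroup G) = c at *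
    have hj2 : j ≤ 2 := Nat.le_of_mul_le_mul_left (by rw [mul_comm c 2]; exact hle) hcpos
    have hij : 2 * j = 3 * i := by nlinarith
    have hi0 : i ≠ 0 := fun h0 => by simp [h0] at ht'; omega
    omega
  have hUfix : ∀ s ∈ U, U ⊆ fixSet Ω (st2 a b ⊓ stabilizer G s : Subgroup G) := by
    intro s hs δ hδ
    have hsl : s ∉ L := Finset.disjoint_right.mp hdLU hs
    have has : a ≠ s := fun he' => hsl (he' ▸ left_mem_line a b)
    have hls : line G a s = {a, s} := by
      symm
      apply Finset.eq_of_subset_of_card_le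
      · intro u hu
        simp only [Finset.mem_insert, Finset.mem_singleton] at hu
        rcases hu with rfl | rfl
        · exact left_mem_line _ _
        · exact right_mem_line _ _
      · rw [Finset.card_pair has, card_line_eq h2 hab has]
        show L.card ≤ 2
        omega
    have hs' : 2 * Nat.card (st2 a b ⊓ stabilizer G s : Subgroup G) = h := by
      exact mem_half.mp hs
    have hcross : ∃ g ∈ (st2 a b : Subgroup G), g • s ∉ line G a s := by
      obtain ⟨g, hg, hgs⟩ : ∃ g ∈ (st2 a b : Subgroup G), g • s ≠ s := by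
        by_contra hcon
        push Not at hcon
        exact hsl (mem_fixSet.mpr fun g hg => hcon g hg)
      refine ⟨g, hg, ?_⟩
      rw [hls]
      simp only [Finset.mem_insert, Finset.mem_singleton, hgs, or_false]
      intro he'
      exact has ((smul_left_cancel g ((mem_st2.mp hg).1.trans he'.symm)))
    -- the big orbits of the two pairs agree
    have hsub : W ⊆ big G a s := by
      intro t ht
      have hK : (st2 a b ⊓ stabilizer G s : Subgroup G) ≤ st2 a s :=
        le_inf (inf_le_left.trans inf_le_left) inf_le_right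
      have hno : ∀ m, Nat.card (st2 a s ⊓ stabilizer G t : Subgroup G) * m =
          Nat.card (st2 a s : Subgroup G) → 3 ≤ m := by
        intro m hm
        by_contra hcon
        apply hnofix s hs t ht
        have h1 := orbit_mul_inf (st2 a b ⊓ stabilizer G s : Subgroup G) t
        have h3 := orbit_mul_inf (st2 a s : Subgroup G) t
        have h4 : (orbit (st2 a b ⊓ stabilizer G s : Subgroup G) t).ncard ≤
            (orbit (st2 a s : Subgroup G) t).ncard := by
          apply Set.ncard_le_ncard ?_ (Set.toFinite _)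
          intro u hu
          rw [mem_orbit_sub] at hu ⊢
          obtain ⟨g, hg, hgu⟩ := hu
          exact ⟨g, hK hg, hgu⟩
        have h5 : (orbit (st2 a s : Subgroup G) t).ncard = m := by
          rw [← hm, mul_comm] at h3
          exact Nat.eq_of_mul_eq_mul_left Nat.card_pos h3
        rw [← h1]
        apply Nat.mul_le_mul_right
        omega
      rcases trichotomy (G := G) a s t with h' | h' | h'
      · exfalso
        have := hno 1 (by rw [mul_one]; exact mem_line_iff_card.mp h')
        omega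
      · exfalso
        have := hno 2 (by rw [mul_comm]; simpa [half] using h')
        omega
      · exact h'
    have hWeq : W = big G a s := Finset.eq_of_subset_of_card_le hsub (by
      rw [card_big_eq h2 hab has])
    refine fix_of_adjacent h2 hab has hs' hcross (Or.inl (mem_half.mp hδ)) ?_
    rcases trichotomy (G := G) a s δ with h' | h' | h'
    · exact Or.inr h'
    · exact Or.inl (mem_half.mp h')
    · rw [← hWeq] at h'
      exact absurd h' (Finset.disjoint_left.mp hdW (Finset.mem_union_right _ hδ))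
  have hfix : ∀ s ∈ U, f + U.card ≤
      (fixSet Ω (st2 a b ⊓ stabilizer G s : Subgroup G)).card := by
    intro s hs
    rw [hf, ← Finset.card_union_of_disjoint hdLU]
    apply Finset.card_le_card
    apply Finset.union_subset ?_ (hUfix s hs)
    intro z hz
    exact mem_fixSet.mpr (inf_le_left.trans (mem_fixSet.mp hz))
  by_cases hn7 : n = 7
  · obtain ⟨t, ht⟩ := hW
    have hg : Nat.card (st2 a b ⊓ stabilizer G γ : Subgroup G) ≤ 6 := by
      set K : Subgroup G := st2 a b ⊓ stabilizer G γ
      have htm : t ∈ moved Ω K := by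
        simp only [moved, Finset.mem_filter, Finset.mem_univ, true_and]
        intro hle
        apply hnofix γ hγU t ht
        show Nat.card K ≤ 2 * Nat.card (K ⊓ stabilizer G t : Subgroup G)
        rw [inf_eq_left.mpr hle]
        omega
      have hm : (moved Ω K).card ≤ 3 := by
        have hsplit := Finset.card_filter_add_card_filter_not (s := (univ : Finset Ω))
          (fun u => K ≤ stabilizer G u)
        have h4 : 4 ≤ (fixSet Ω K).card := by
          refine le_trans ?_ (hfix γ hγU)
          omega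
        unfold moved
        unfold fixSet at h4
        rw [Finset.card_univ] at hsplit
        omega
      refine le_trans (card_le_step htm) ?_
      refine le_trans (Nat.mul_le_mul hm (card_le_two_of_moved (Ω := Ω) ?_)) (by norm_num)
      refine le_trans (Finset.card_le_card (moved_inf_subset t)) ?_
      rw [Finset.card_erase_of_mem htm]
      omega
    have hγ' : 2 * Nat.card (st2 a b ⊓ stabilizer G γ : Subgroup G) = h := by
      exact mem_half.mp hγU
    have ht' := hWall t ht
    exact seven hn7 h2 hab (Or.inr (by rw [← hhdef]; omega))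
  · refine reduce (f + U.card) hfix ?_
    have hu4 : 4 ≤ U.card := by omega
    have hu4q : (4 : ℚ) ≤ U.card := by exact_mod_cast hu4
    have hfq : (f : ℚ) = 2 := by exact_mod_cast hf'
    have hwq' : (W.card : ℚ) = 3 := by exact_mod_cast hw
    have heq' : (e : ℚ) = 1 := by exact_mod_cast he1'
    push_cast
    rw [hfq, hwq'] at hnq
    rw [hfq, hwq', heq']
    nlinarith [mul_le_mul_of_nonneg_left hu4q (show (0 : ℚ) ≤ U.card by linarith)]

end Cfsg.Lib.Derange
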